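import Cfsg.Agent.Fi24Mult.Log.Defs

/-! Generated: checks -/

set_option Elab.async false

namespace Cfsg.Agent.Fi24Mult.Log

open Cfsg.Agent.CosetCert

theorem okAt0 : allFrom check 0 2500 = true := by decide +kernel

theorem okAt2500 : allFrom check 2500 2500 = true := by decide +kernel

theorem okAt5000 : allFrom check 5000 2500 = true := by decide +kernel

theorem okAt7500 : allFrom check 7500 2500 = true := by decide +kernel

theorem okAt10000 : allFrom check 10000 2500 = true := by decide +kernel

theorem okAt12500 : allFrom check 12500 2500 = true := by decide +kernel

theorem okAt15000 : allFrom check 15000 2500 = true := by decide +kernel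

theorem okAt17500 : allFrom check 17500 2500 = true := by decide +kernel


end Cfsg.Agent.Fi24Mult.Log
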