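import Cfsg.Agent.Fi24Mult.Log.Defs

/-! Generated: checks -/

set_option Elab.async false

namespace Cfsg.Agent.Fi24Mult.Log

open Cfsg.Agent.CosetCert

theorem okAt20000 : allFrom check 20000 2500 = true := by decide +kernel

theorem okAt22500 : allFrom check 22500 2500 = true := by decide +kernel

theorem okAt25000 : allFrom check 25000 2500 = true := by decide +kernel

theorem okAt27500 : allFrom check 27500 2500 = true := by decide +kernel

theorem okAt30000 : allFrom check 30000 2500 = true := by decide +kernel

theorem okAt32500 : allFrom check 32500 2500 = true := by decide +kernel

theorem okAt35000 : allFrom check 35000 2500 = true := by decide +kernel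

theorem okAt37500 : allFrom check 37500 2500 = true := by decide +kernel


end Cfsg.Agent.Fi24Mult.Log
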