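import Cfsg.Agent.Fi24Mult.Log.Defs

/-! Generated: checks -/

set_option Elab.async false

namespace Cfsg.Agent.Fi24Mult.Log

open Cfsg.Agent.CosetCert

theorem okAt200000 : allFrom check 200000 2500 = true := by decide +kernel

theorem okAt202500 : allFrom check 202500 2500 = true := by decide +kernel

theorem okAt205000 : allFrom check 205000 2500 = true := by decide +kernel

theorem okAt207500 : allFrom check 207500 2500 = true := by decide +kernel

theorem okAt210000 : allFrom check 210000 2500 = true := by decide +kernel

theorem okAt212500 : allFrom check 212500 2500 = true := by decide +kernel

theorem okAt215000 : allFrom check 215000 2500 = true := by decide +kernel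

theorem okAt217500 : allFrom check 217500 2500 = true := by decide +kernel


end Cfsg.Agent.Fi24Mult.Log
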