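import Cfsg.Agent.Fi24Mult.Log.Defs

/-! Generated: checks -/

set_option Elab.async false

namespace Cfsg.Agent.Fi24Mult.Log

open Cfsg.Agent.CosetCert

theorem okAt220000 : allFrom check 220000 2500 = true := by decide +kernel

theorem okAt222500 : allFrom check 222500 2500 = true := by decide +kernel

theorem okAt225000 : allFrom check 225000 2500 = true := by decide +kernel

theorem okAt227500 : allFrom check 227500 2500 = true := by decide +kernel

theorem okAt230000 : allFrom check 230000 2500 = true := by decide +kernel

theorem okAt232500 : allFrom check 232500 2500 = true := by decide +kernel

theorem okAt235000 : allFrom check 235000 2500 = true := by decide +kernel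

theorem okAt237500 : allFrom check 237500 2500 = true := by decide +kernel


end Cfsg.Agent.Fi24Mult.Log
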