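import Cfsg.Agent.Fi24Mult.Log.Defs

/-! Generated: checks -/

set_option Elab.async false

namespace Cfsg.Agent.Fi24Mult.Log

open Cfsg.Agent.CosetCert

theorem okAt240000 : allFrom check 240000 2500 = true := by decide +kernel

theorem okAt242500 : allFrom check 242500 2500 = true := by decide +kernel

theorem okAt245000 : allFrom check 245000 2500 = true := by decide +kernel

theorem okAt247500 : allFrom check 247500 2500 = true := by decide +kernel

theorem okAt250000 : allFrom check 250000 2500 = true := by decide +kernel

theorem okAt252500 : allFrom check 252500 2500 = true := by decide +kernel

theorem okAt255000 : allFrom check 255000 2500 = true := by decide +kernel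

theorem okAt257500 : allFrom check 257500 2500 = true := by decide +kernel


end Cfsg.Agent.Fi24Mult.Log
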