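import Cfsg.Agent.Fi24Mult.Log.Defs

/-! Generated: checks -/

set_option Elab.async false

namespace Cfsg.Agent.Fi24Mult.Log

open Cfsg.Agent.CosetCert

theorem okAt260000 : allFrom check 260000 2500 = true := by decide +kernel

theorem okAt262500 : allFrom check 262500 2500 = true := by decide +kernel

theorem okAt265000 : allFrom check 265000 2500 = true := by decide +kernel

theorem okAt267500 : allFrom check 267500 2500 = true := by decide +kernel

theorem okAt270000 : allFrom check 270000 2500 = true := by decide +kernel

theorem okAt272500 : allFrom check 272500 2500 = true := by decide +kernel

theorem okAt275000 : allFrom check 275000 2500 = true := by decide +kernel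

theorem okAt277500 : allFrom check 277500 2500 = true := by decide +kernel


end Cfsg.Agent.Fi24Mult.Log
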