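import Cfsg.Agent.Fi24Mult.Log.Defs

/-! Generated: checks -/

set_option Elab.async false

namespace Cfsg.Agent.Fi24Mult.Log

open Cfsg.Agent.CosetCert

theorem okAt280000 : allFrom check 280000 2500 = true := by decide +kernel

theorem okAt282500 : allFrom check 282500 2500 = true := by decide +kernel

theorem okAt285000 : allFrom check 285000 2500 = true := by decide +kernel

theorem okAt287500 : allFrom check 287500 2500 = true := by decide +kernel

theorem okAt290000 : allFrom check 290000 2500 = true := by decide +kernel

theorem okAt292500 : allFrom check 292500 2500 = true := by decide +kernel

theorem okAt295000 : allFrom check 295000 2500 = true := by decide +kernel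

theorem okAt297500 : allFrom check 297500 2500 = true := by decide +kernel


end Cfsg.Agent.Fi24Mult.Log
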