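import Cfsg.Agent.Fi24Mult.Log.Defs

/-! Generated: checks -/

set_option Elab.async false

namespace Cfsg.Agent.Fi24Mult.Log

open Cfsg.Agent.CosetCert

theorem okAt300000 : allFrom check 300000 2500 = true := by decide +kernel

theorem okAt302500 : allFrom check 302500 2500 = true := by decide +kernel

theorem okAt305000 : allFrom check 305000 2500 = true := by decide +kernel

theorem okAt307500 : allFrom check 307500 2500 = true := by decide +kernel

theorem okAt310000 : allFrom check 310000 2500 = true := by decide +kernel

theorem okAt312500 : allFrom check 312500 2500 = true := by decide +kernel

theorem okAt315000 : allFrom check 315000 2500 = true := by decide +kernel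

theorem okAt317500 : allFrom check 317500 2500 = true := by decide +kernel


end Cfsg.Agent.Fi24Mult.Log
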