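import Cfsg.Agent.Fi24Mult.Log.Defs

/-! Generated: checks -/

set_option Elab.async false

namespace Cfsg.Agent.Fi24Mult.Log

open Cfsg.Agent.CosetCert

theorem okAt320000 : allFrom check 320000 2500 = true := by decide +kernel

theorem okAt322500 : allFrom check 322500 1204 = true := by decide +kernel


end Cfsg.Agent.Fi24Mult.Log
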