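import Cfsg.Agent.Fi24Mult.Log.Defs

/-! Generated: checks -/

set_option Elab.async false

namespace Cfsg.Agent.Fi24Mult.Log

open Cfsg.Agent.CosetCert

theorem okAt40000 : allFrom check 40000 2500 = true := by decide +kernel

theorem okAt42500 : allFrom check 42500 2500 = true := by decide +kernel

theorem okAt45000 : allFrom check 45000 2500 = true := by decide +kernel

theorem okAt47500 : allFrom check 47500 2500 = true := by decide +kernel

theorem okAt50000 : allFrom check 50000 2500 = true := by decide +kernel

theorem okAt52500 : allFrom check 52500 2500 = true := by decide +kernel

theorem okAt55000 : allFrom check 55000 2500 = true := by decide +kernel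

theorem okAt57500 : allFrom check 57500 2500 = true := by decide +kernel


end Cfsg.Agent.Fi24Mult.Log
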