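import Cfsg.Agent.Fi24Mult.Log.Defs

/-! Generated: checks -/

set_option Elab.async false

namespace Cfsg.Agent.Fi24Mult.Log

open Cfsg.Agent.CosetCert

theorem okAt60000 : allFrom check 60000 2500 = true := by decide +kernel

theorem okAt62500 : allFrom check 62500 2500 = true := by decide +kernel

theorem okAt65000 : allFrom check 65000 2500 = true := by decide +kernel

theorem okAt67500 : allFrom check 67500 2500 = true := by decide +kernel

theorem okAt70000 : allFrom check 70000 2500 = true := by decide +kernel

theorem okAt72500 : allFrom check 72500 2500 = true := by decide +kernel

theorem okAt75000 : allFrom check 75000 2500 = true := by decide +kernel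

theorem okAt77500 : allFrom check 77500 2500 = true := by decide +kernel


end Cfsg.Agent.Fi24Mult.Log
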