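import Cfsg.Agent.Fi24Mult.Log.Defs

/-! Generated: checks -/

set_option Elab.async false

namespace Cfsg.Agent.Fi24Mult.Log

open Cfsg.Agent.CosetCert

theorem okAt80000 : allFrom check 80000 2500 = true := by decide +kernel

theorem okAt82500 : allFrom check 82500 2500 = true := by decide +kernel

theorem okAt85000 : allFrom check 85000 2500 = true := by decide +kernel

theorem okAt87500 : allFrom check 87500 2500 = true := by decide +kernel

theorem okAt90000 : allFrom check 90000 2500 = true := by decide +kernel

theorem okAt92500 : allFrom check 92500 2500 = true := by decide +kernel

theorem okAt95000 : allFrom check 95000 2500 = true := by decide +kernel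

theorem okAt97500 : allFrom check 97500 2500 = true := by decide +kernel


end Cfsg.Agent.Fi24Mult.Log
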