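import Cfsg.Agent.Fi24Mult.Log.Defs

/-! Generated: checks -/

set_option Elab.async false

namespace Cfsg.Agent.Fi24Mult.Log

open Cfsg.Agent.CosetCert

theorem okAt100000 : allFrom check 100000 2500 = true := by decide +kernel

theorem okAt102500 : allFrom check 102500 2500 = true := by decide +kernel

theorem okAt105000 : allFrom check 105000 2500 = true := by decide +kernel

theorem okAt107500 : allFrom check 107500 2500 = true := by decide +kernel

theorem okAt110000 : allFrom check 110000 2500 = true := by decide +kernel

theorem okAt112500 : allFrom check 112500 2500 = true := by decide +kernel

theorem okAt115000 : allFrom check 115000 2500 = true := by decide +kernel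

theorem okAt117500 : allFrom check 117500 2500 = true := by decide +kernel


end Cfsg.Agent.Fi24Mult.Log
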