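import Cfsg.Agent.Fi24Mult.Log.Defs

/-! Generated: checks -/

set_option Elab.async false

namespace Cfsg.Agent.Fi24Mult.Log

open Cfsg.Agent.CosetCert

theorem okAt120000 : allFrom check 120000 2500 = true := by decide +kernel

theorem okAt122500 : allFrom check 122500 2500 = true := by decide +kernel

theorem okAt125000 : allFrom check 125000 2500 = true := by decide +kernel

theorem okAt127500 : allFrom check 127500 2500 = true := by decide +kernel

theorem okAt130000 : allFrom check 130000 2500 = true := by decide +kernel

theorem okAt132500 : allFrom check 132500 2500 = true := by decide +kernel

theorem okAt135000 : allFrom check 135000 2500 = true := by decide +kernel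

theorem okAt137500 : allFrom check 137500 2500 = true := by decide +kernel


end Cfsg.Agent.Fi24Mult.Log
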