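import Cfsg.Agent.Fi24Mult.Log.Defs

/-! Generated: checks -/

set_option Elab.async false

namespace Cfsg.Agent.Fi24Mult.Log

open Cfsg.Agent.CosetCert

theorem okAt140000 : allFrom check 140000 2500 = true := by decide +kernel

theorem okAt142500 : allFrom check 142500 2500 = true := by decide +kernel

theorem okAt145000 : allFrom check 145000 2500 = true := by decide +kernel

theorem okAt147500 : allFrom check 147500 2500 = true := by decide +kernel

theorem okAt150000 : allFrom check 150000 2500 = true := by decide +kernel

theorem okAt152500 : allFrom check 152500 2500 = true := by decide +kernel

theorem okAt155000 : allFrom check 155000 2500 = true := by decide +kernel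

theorem okAt157500 : allFrom check 157500 2500 = true := by decide +kernel


end Cfsg.Agent.Fi24Mult.Log
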