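import Cfsg.Agent.Fi24Mult.Log.Defs

/-! Generated: checks -/

set_option Elab.async false

namespace Cfsg.Agent.Fi24Mult.Log

open Cfsg.Agent.CosetCert

theorem okAt160000 : allFrom check 160000 2500 = true := by decide +kernel

theorem okAt162500 : allFrom check 162500 2500 = true := by decide +kernel

theorem okAt165000 : allFrom check 165000 2500 = true := by decide +kernel

theorem okAt167500 : allFrom check 167500 2500 = true := by decide +kernel

theorem okAt170000 : allFrom check 170000 2500 = true := by decide +kernel

theorem okAt172500 : allFrom check 172500 2500 = true := by decide +kernel

theorem okAt175000 : allFrom check 175000 2500 = true := by decide +kernel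

theorem okAt177500 : allFrom check 177500 2500 = true := by decide +kernel


end Cfsg.Agent.Fi24Mult.Log
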