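import Cfsg.Agent.Fi24Mult.Log.Defs

/-! Generated: checks -/

set_option Elab.async false

namespace Cfsg.Agent.Fi24Mult.Log

open Cfsg.Agent.CosetCert

theorem okAt180000 : allFrom check 180000 2500 = true := by decide +kernel

theorem okAt182500 : allFrom check 182500 2500 = true := by decide +kernel

theorem okAt185000 : allFrom check 185000 2500 = true := by decide +kernel

theorem okAt187500 : allFrom check 187500 2500 = true := by decide +kernel

theorem okAt190000 : allFrom check 190000 2500 = true := by decide +kernel

theorem okAt192500 : allFrom check 192500 2500 = true := by decide +kernel

theorem okAt195000 : allFrom check 195000 2500 = true := by decide +kernel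

theorem okAt197500 : allFrom check 197500 2500 = true := by decide +kernel


end Cfsg.Agent.Fi24Mult.Log
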