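import Cfsg.Agent.Fi24Mult.Log.Check0
import Cfsg.Agent.Fi24Mult.Log.Check1
import Cfsg.Agent.Fi24Mult.Log.Check2
import Cfsg.Agent.Fi24Mult.Log.Check3
import Cfsg.Agent.Fi24Mult.Log.Check4
import Cfsg.Agent.Fi24Mult.Log.Check5
import Cfsg.Agent.Fi24Mult.Log.Check6
import Cfsg.Agent.Fi24Mult.Log.Check7
import Cfsg.Agent.Fi24Mult.Log.Check8
import Cfsg.Agent.Fi24Mult.Log.Check9
import Cfsg.Agent.Fi24Mult.Log.Check10
import Cfsg.Agent.Fi24Mult.Log.Check11
import Cfsg.Agent.Fi24Mult.Log.Check12
import Cfsg.Agent.Fi24Mult.Log.Check13
import Cfsg.Agent.Fi24Mult.Log.Check14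
import Cfsg.Agent.Fi24Mult.Log.Check15
import Cfsg.Agent.Fi24Mult.Log.Check16

/-! Generated: checks combined -/

set_option Elab.async false
set_option maxRecDepth 100000

namespace Cfsg.Agent.Fi24Mult.Log

open Cfsg.Agent.CosetCert

theorem ok : ∀ i, i < 323704 → check i = true := by
  have h0 : ∀ i, i < 0 → check i = true := forall_lt_zero
  have h1 := forall_lt_step (b := 2500) h0 okAt0 rfl
  have h2 := forall_lt_step (b := 5000) h1 okAt2500 rfl
  have h3 := forall_lt_step (b := 7500) h2 okAt5000 rfl
  have h4 := forall_lt_step (b := 10000) h3 okAt7500 rfl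
  have h5 := forall_lt_step (b := 12500) h4 okAt10000 rfl
  have h6 := forall_lt_step (b := 15000) h5 okAt12500 rfl
  have h7 := forall_lt_step (b := 17500) h6 okAt15000 rfl
  have h8 := forall_lt_step (b := 20000) h7 okAt17500 rfl
  have h9 := forall_lt_step (b := 22500) h8 okAt20000 rfl
  have h10 := forall_lt_step (b := 25000) h9 okAt22500 rfl
  have h11 := forall_lt_step (b := 27500) h10 okAt25000 rfl
  have h12 := forall_lt_step (b := 30000) h11 okAt27500 rfl
  have h13 := forall_lt_step (b := 32500) h12 okAt30000 rfl
  have h14 := forall_lt_step (b := 35000) h13 okAt32500 rfl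
  have h15 := forall_lt_step (b := 37500) h14 okAt35000 rfl
  have h16 := forall_lt_step (b := 40000) h15 okAt37500 rfl
  have h17 := forall_lt_step (b := 42500) h16 okAt40000 rfl
  have h18 := forall_lt_step (b := 45000) h17 okAt42500 rfl
  have h19 := forall_lt_step (b := 47500) h18 okAt45000 rfl
  have h20 := forall_lt_step (b := 50000) h19 okAt47500 rfl
  have h21 := forall_lt_step (b := 52500) h20 okAt50000 rfl
  have h22 := forall_lt_step (b := 55000) h21 okAt52500 rfl
  have h23 := forall_lt_step (b := 57500) h22 okAt55000 rfl
  have h24 := forall_lt_step (b := 60000) h23 okAt57500 rfl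
  have h25 := forall_lt_step (b := 62500) h24 okAt60000 rfl
  have h26 := forall_lt_step (b := 65000) h25 okAt62500 rfl
  have h27 := forall_lt_step (b := 67500) h26 okAt65000 rfl
  have h28 := forall_lt_step (b := 70000) h27 okAt67500 rfl
  have h29 := forall_lt_step (b := 72500) h28 okAt70000 rfl
  have h30 := forall_lt_step (b := 75000) h29 okAt72500 rfl
  have h31 := forall_lt_step (b := 77500) h30 okAt75000 rfl
  have h32 := forall_lt_step (b := 80000) h31 okAt77500 rfl
  have h33 := forall_lt_step (b := 82500) h32 okAt80000 rfl
  have h34 := forall_lt_step (b := 85000) h33 okAt82500 rfl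
  have h35 := forall_lt_step (b := 87500) h34 okAt85000 rfl
  have h36 := forall_lt_step (b := 90000) h35 okAt87500 rfl
  have h37 := forall_lt_step (b := 92500) h36 okAt90000 rfl
  have h38 := forall_lt_step (b := 95000) h37 okAt92500 rfl
  have h39 := forall_lt_step (b := 97500) h38 okAt95000 rfl
  have h40 := forall_lt_step (b := 100000) h39 okAt97500 rfl
  have h41 := forall_lt_step (b := 102500) h40 okAt100000 rfl
  have h42 := forall_lt_step (b := 105000) h41 okAt102500 rfl
  have h43 := forall_lt_step (b := 107500) h42 okAt105000 rfl
  have h44 := forall_lt_step (b := 110000) h43 okAt107500 rfl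
  have h45 := forall_lt_step (b := 112500) h44 okAt110000 rfl
  have h46 := forall_lt_step (b := 115000) h45 okAt112500 rfl
  have h47 := forall_lt_step (b := 117500) h46 okAt115000 rfl
  have h48 := forall_lt_step (b := 120000) h47 okAt117500 rfl
  have h49 := forall_lt_step (b := 122500) h48 okAt120000 rfl
  have h50 := forall_lt_step (b := 125000) h49 okAt122500 rfl
  have h51 := forall_lt_step (b := 127500) h50 okAt125000 rfl
  have h52 := forall_lt_step (b := 130000) h51 okAt127500 rfl
  have h53 := forall_lt_step (b := 132500) h52 okAt130000 rfl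
  have h54 := forall_lt_step (b := 135000) h53 okAt132500 rfl
  have h55 := forall_lt_step (b := 137500) h54 okAt135000 rfl
  have h56 := forall_lt_step (b := 140000) h55 okAt137500 rfl
  have h57 := forall_lt_step (b := 142500) h56 okAt140000 rfl
  have h58 := forall_lt_step (b := 145000) h57 okAt142500 rfl
  have h59 := forall_lt_step (b := 147500) h58 okAt145000 rfl
  have h60 := forall_lt_step (b := 150000) h59 okAt147500 rfl
  have h61 := forall_lt_step (b := 152500) h60 okAt150000 rfl
  have h62 := forall_lt_step (b := 155000) h61 okAt152500 rfl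
  have h63 := forall_lt_step (b := 157500) h62 okAt155000 rfl
  have h64 := forall_lt_step (b := 160000) h63 okAt157500 rfl
  have h65 := forall_lt_step (b := 162500) h64 okAt160000 rfl
  have h66 := forall_lt_step (b := 165000) h65 okAt162500 rfl
  have h67 := forall_lt_step (b := 167500) h66 okAt165000 rfl
  have h68 := forall_lt_step (b := 170000) h67 okAt167500 rfl
  have h69 := forall_lt_step (b := 172500) h68 okAt170000 rfl
  have h70 := forall_lt_step (b := 175000) h69 okAt172500 rfl
  have h71 := forall_lt_step (b := 177500) h70 okAt175000 rfl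
  have h72 := forall_lt_step (b := 180000) h71 okAt177500 rfl
  have h73 := forall_lt_step (b := 182500) h72 okAt180000 rfl
  have h74 := forall_lt_step (b := 185000) h73 okAt182500 rfl
  have h75 := forall_lt_step (b := 187500) h74 okAt185000 rfl
  have h76 := forall_lt_step (b := 190000) h75 okAt187500 rfl
  have h77 := forall_lt_step (b := 192500) h76 okAt190000 rfl
  have h78 := forall_lt_step (b := 195000) h77 okAt192500 rfl
  have h79 := forall_lt_step (b := 197500) h78 okAt195000 rfl
  have h80 := forall_lt_step (b := 200000) h79 okAt197500 rfl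
  have h81 := forall_lt_step (b := 202500) h80 okAt200000 rfl
  have h82 := forall_lt_step (b := 205000) h81 okAt202500 rfl
  have h83 := forall_lt_step (b := 207500) h82 okAt205000 rfl
  have h84 := forall_lt_step (b := 210000) h83 okAt207500 rfl
  have h85 := forall_lt_step (b := 212500) h84 okAt210000 rfl
  have h86 := forall_lt_step (b := 215000) h85 okAt212500 rfl
  have h87 := forall_lt_step (b := 217500) h86 okAt215000 rfl
  have h88 := forall_lt_step (b := 220000) h87 okAt217500 rfl
  have h89 := forall_lt_step (b := 222500) h88 okAt220000 rfl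
  have h90 := forall_lt_step (b := 225000) h89 okAt222500 rfl
  have h91 := forall_lt_step (b := 227500) h90 okAt225000 rfl
  have h92 := forall_lt_step (b := 230000) h91 okAt227500 rfl
  have h93 := forall_lt_step (b := 232500) h92 okAt230000 rfl
  have h94 := forall_lt_step (b := 235000) h93 okAt232500 rfl
  have h95 := forall_lt_step (b := 237500) h94 okAt235000 rfl
  have h96 := forall_lt_step (b := 240000) h95 okAt237500 rfl
  have h97 := forall_lt_step (b := 242500) h96 okAt240000 rfl
  have h98 := forall_lt_step (b := 245000) h97 okAt242500 rfl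
  have h99 := forall_lt_step (b := 247500) h98 okAt245000 rfl
  have h100 := forall_lt_step (b := 250000) h99 okAt247500 rfl
  have h101 := forall_lt_step (b := 252500) h100 okAt250000 rfl
  have h102 := forall_lt_step (b := 255000) h101 okAt252500 rfl
  have h103 := forall_lt_step (b := 257500) h102 okAt255000 rfl
  have h104 := forall_lt_step (b := 260000) h103 okAt257500 rfl
  have h105 := forall_lt_step (b := 262500) h104 okAt260000 rfl
  have h106 := forall_lt_step (b := 265000) h105 okAt262500 rfl
  have h107 := forall_lt_step (b := 267500) h106 okAt265000 rfl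
  have h108 := forall_lt_step (b := 270000) h107 okAt267500 rfl
  have h109 := forall_lt_step (b := 272500) h108 okAt270000 rfl
  have h110 := forall_lt_step (b := 275000) h109 okAt272500 rfl
  have h111 := forall_lt_step (b := 277500) h110 okAt275000 rfl
  have h112 := forall_lt_step (b := 280000) h111 okAt277500 rfl
  have h113 := forall_lt_step (b := 282500) h112 okAt280000 rfl
  have h114 := forall_lt_step (b := 285000) h113 okAt282500 rfl
  have h115 := forall_lt_step (b := 287500) h114 okAt285000 rfl
  have h116 := forall_lt_step (b := 290000) h115 okAt287500 rfl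
  have h117 := forall_lt_step (b := 292500) h116 okAt290000 rfl
  have h118 := forall_lt_step (b := 295000) h117 okAt292500 rfl
  have h119 := forall_lt_step (b := 297500) h118 okAt295000 rfl
  have h120 := forall_lt_step (b := 300000) h119 okAt297500 rfl
  have h121 := forall_lt_step (b := 302500) h120 okAt300000 rfl
  have h122 := forall_lt_step (b := 305000) h121 okAt302500 rfl
  have h123 := forall_lt_step (b := 307500) h122 okAt305000 rfl
  have h124 := forall_lt_step (b := 310000) h123 okAt307500 rfl
  have h125 := forall_lt_step (b := 312500) h124 okAt310000 rfl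
  have h126 := forall_lt_step (b := 315000) h125 okAt312500 rfl
  have h127 := forall_lt_step (b := 317500) h126 okAt315000 rfl
  have h128 := forall_lt_step (b := 320000) h127 okAt317500 rfl
  have h129 := forall_lt_step (b := 322500) h128 okAt320000 rfl
  have h130 := forall_lt_step (b := 323704) h129 okAt322500 rfl
  exact h130

end Cfsg.Agent.Fi24Mult.Log
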