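import Cfsg.Agent.CosetCert.Pack

/-! Generated: values -/

set_option Elab.async false

namespace Cfsg.Agent.Fi24Mult.Log

open Cfsg.Agent.CosetCert

def valStore_1 : Store := (.node 9 (.node 4 (.node 2 (.node 1 (.leaf 0x0) (.leaf 0x0)) (.node 3 (.leaf 0x0) (.leaf 0x0))) (.node 6 (.node 5 (.leaf 0x0) (.leaf 0x0)) (.node 7 (.leaf 0x0) (.node 8 (.leaf 0x0) (.leaf 0x0))))) (.node 14 (.node 11 (.node 10 (.leaf 0x0) (.leaf 0x0)) (.node 12 (.leaf 0x0) (.node 13 (.leaf 0x0) (.leaf 0x0)))) (.node 16 (.node 15 (.leaf 0x0) (.leaf 0x0)) (.node 17 (.leaf 0x0) (.node 18 (.leaf 0x0) (.leaf 0x0))))))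

def valStore_2 : Store := (.node 29 (.node 24 (.node 21 (.node 20 (.leaf 0x0) (.leaf 0x0)) (.node 22 (.leaf 0x0) (.node 23 (.leaf 0x0) (.leaf 0x0)))) (.node 26 (.node 25 (.leaf 0x0) (.leaf 0x0)) (.node 27 (.leaf 0x0) (.node 28 (.leaf 0x0) (.leaf 0x0))))) (.node 34 (.node 31 (.node 30 (.leaf 0x0) (.leaf 0x0)) (.node 32 (.leaf 0x0) (.node 33 (.leaf 0x0) (.leaf 0x0)))) (.node 36 (.node 35 (.leaf 0x0) (.leaf 0x0)) (.node 37 (.leaf 0x0) (.node 38 (.leaf 0x0) (.leaf 0x0))))))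

def valStore_3 : Store := (.node 49 (.node 44 (.node 41 (.node 40 (.leaf 0x0) (.leaf 0x0)) (.node 42 (.leaf 0x0) (.node 43 (.leaf 0x0) (.leaf 0x0)))) (.node 46 (.node 45 (.leaf 0x0) (.leaf 0x0)) (.node 47 (.leaf 0x0) (.node 48 (.leaf 0x0) (.leaf 0x0))))) (.node 54 (.node 51 (.node 50 (.leaf 0x0) (.leaf 0x0)) (.node 52 (.leaf 0x0) (.node 53 (.leaf 0x0) (.leaf 0x0)))) (.node 56 (.node 55 (.leaf 0x0) (.leaf 0x0)) (.node 57 (.leaf 0x0) (.node 58 (.leaf 0x0) (.leaf 0x0))))))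

def valStore_4 : Store := (.node 69 (.node 64 (.node 61 (.node 60 (.leaf 0x0) (.leaf 0x0)) (.node 62 (.leaf 0x0) (.node 63 (.leaf 0x0) (.leaf 0x0)))) (.node 66 (.node 65 (.leaf 0x0) (.leaf 0x0)) (.node 67 (.leaf 0x0) (.node 68 (.leaf 0x0) (.leaf 0x0))))) (.node 74 (.node 71 (.node 70 (.leaf 0x0) (.leaf 0x0)) (.node 72 (.leaf 0x0) (.node 73 (.leaf 0x0) (.leaf 0x0)))) (.node 76 (.node 75 (.leaf 0x0) (.leaf 0x0)) (.node 77 (.leaf 0x0) (.node 78 (.leaf 0x0) (.leaf 0x0))))))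

def valStore_5 : Store := (.node 88 (.node 83 (.node 81 (.node 80 (.leaf 0x0) (.leaf 0x0)) (.node 82 (.leaf 0x0) (.leaf 0x0))) (.node 85 (.node 84 (.leaf 0x0) (.leaf 0x0)) (.node 86 (.leaf 0x0) (.node 87 (.leaf 0x0) (.leaf 0x0))))) (.node 93 (.node 90 (.node 89 (.leaf 0x0) (.leaf 0x0)) (.node 91 (.leaf 0x0) (.node 92 (.leaf 0x0) (.leaf 0x0)))) (.node 95 (.node 94 (.leaf 0x0) (.leaf 0x0)) (.node 96 (.leaf 0x0) (.node 97 (.leaf 0x0) (.leaf 0x0))))))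

def valStore_6 : Store := (.node 108 (.node 103 (.node 100 (.node 99 (.leaf 0x0) (.leaf 0x0)) (.node 101 (.leaf 0x0) (.node 102 (.leaf 0x0) (.leaf 0x0)))) (.node 105 (.node 104 (.leaf 0x0) (.leaf 0x0)) (.node 106 (.leaf 0x0) (.node 107 (.leaf 0x0) (.leaf 0x0))))) (.node 113 (.node 110 (.node 109 (.leaf 0x0) (.leaf 0x0)) (.node 111 (.leaf 0x0) (.node 112 (.leaf 0x0) (.leaf 0x0)))) (.node 115 (.node 114 (.leaf 0x0) (.leaf 0x0)) (.node 116 (.leaf 0x0) (.node 117 (.leaf 0x0) (.leaf 0x0))))))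

def valStore_7 : Store := (.node 128 (.node 123 (.node 120 (.node 119 (.leaf 0x0) (.leaf 0x0)) (.node 121 (.leaf 0x0) (.node 122 (.leaf 0x0) (.leaf 0x0)))) (.node 125 (.node 124 (.leaf 0x0) (.leaf 0x0)) (.node 126 (.leaf 0x0) (.node 127 (.leaf 0x0) (.leaf 0x0))))) (.node 133 (.node 130 (.node 129 (.leaf 0x0) (.leaf 0x0)) (.node 131 (.leaf 0x0) (.node 132 (.leaf 0x0) (.leaf 0x0)))) (.node 135 (.node 134 (.leaf 0x0) (.leaf 0x0)) (.node 136 (.leaf 0x0) (.node 137 (.leaf 0x0) (.leaf 0x0))))))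

def valStore_8 : Store := (.node 148 (.node 143 (.node 140 (.node 139 (.leaf 0x0) (.leaf 0x0)) (.node 141 (.leaf 0x0) (.node 142 (.leaf 0x0) (.leaf 0x0)))) (.node 145 (.node 144 (.leaf 0x0) (.leaf 0x0)) (.node 146 (.leaf 0x0) (.node 147 (.leaf 0x0) (.leaf 0x0))))) (.node 153 (.node 150 (.node 149 (.leaf 0x0) (.leaf 0x0)) (.node 151 (.leaf 0x0) (.node 152 (.leaf 0x0) (.leaf 0x0)))) (.node 155 (.node 154 (.leaf 0x0) (.leaf 0x0)) (.node 156 (.leaf 0x0) (.node 157 (.leaf 0x0) (.leaf 0x0))))))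

def valStore_9 : Store := (.node 167 (.node 162 (.node 160 (.node 159 (.leaf 0x0) (.leaf 0x0)) (.node 161 (.leaf 0x0) (.leaf 0x0))) (.node 164 (.node 163 (.leaf 0x0) (.leaf 0x0)) (.node 165 (.leaf 0x0) (.node 166 (.leaf 0x0) (.leaf 0x0))))) (.node 172 (.node 169 (.node 168 (.leaf 0x0) (.leaf 0x0)) (.node 170 (.leaf 0x0) (.node 171 (.leaf 0x0) (.leaf 0x0)))) (.node 174 (.node 173 (.leaf 0x0) (.leaf 0x0)) (.node 175 (.leaf 0x0) (.node 176 (.leaf 0x0) (.leaf 0x0))))))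

def valStore_10 : Store := (.node 187 (.node 182 (.node 179 (.node 178 (.leaf 0x0) (.leaf 0x0)) (.node 180 (.leaf 0x0) (.node 181 (.leaf 0x0) (.leaf 0x0)))) (.node 184 (.node 183 (.leaf 0x0) (.leaf 0x0)) (.node 185 (.leaf 0x0) (.node 186 (.leaf 0x0) (.leaf 0x0))))) (.node 192 (.node 189 (.node 188 (.leaf 0x0) (.leaf 0x0)) (.node 190 (.leaf 0x0) (.node 191 (.leaf 0x0) (.leaf 0x0)))) (.node 194 (.node 193 (.leaf 0x0) (.leaf 0x0)) (.node 195 (.leaf 0x0) (.node 196 (.leaf 0x0) (.leaf 0x0))))))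

def valStore_11 : Store := (.node 207 (.node 202 (.node 199 (.node 198 (.leaf 0x0) (.leaf 0x0)) (.node 200 (.leaf 0x0) (.node 201 (.leaf 0x0) (.leaf 0x0)))) (.node 204 (.node 203 (.leaf 0x0) (.leaf 0x0)) (.node 205 (.leaf 0x0) (.node 206 (.leaf 0x0) (.leaf 0x0))))) (.node 212 (.node 209 (.node 208 (.leaf 0x0) (.leaf 0x0)) (.node 210 (.leaf 0x0) (.node 211 (.leaf 0x0) (.leaf 0x0)))) (.node 214 (.node 213 (.leaf 0x0) (.leaf 0x0)) (.node 215 (.leaf 0x0) (.node 216 (.leaf 0x0) (.leaf 0x0))))))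

def valStore_12 : Store := (.node 227 (.node 222 (.node 219 (.node 218 (.leaf 0x0) (.leaf 0x0)) (.node 220 (.leaf 0x0) (.node 221 (.leaf 0x0) (.leaf 0x0)))) (.node 224 (.node 223 (.leaf 0x0) (.leaf 0x0)) (.node 225 (.leaf 0x0) (.node 226 (.leaf 0x0) (.leaf 0x0))))) (.node 232 (.node 229 (.node 228 (.leaf 0x0) (.leaf 0x0)) (.node 230 (.leaf 0x0) (.node 231 (.leaf 0x0) (.leaf 0x0)))) (.node 234 (.node 233 (.leaf 0x0) (.leaf 0x0)) (.node 235 (.leaf 0x0) (.node 236 (.leaf 0x0) (.leaf 0x0))))))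

def valStore_13 : Store := (.node 246 (.node 241 (.node 239 (.node 238 (.leaf 0x0) (.leaf 0x0)) (.node 240 (.leaf 0x0) (.leaf 0x0))) (.node 243 (.node 242 (.leaf 0x0) (.leaf 0x0)) (.node 244 (.leaf 0x0) (.node 245 (.leaf 0x0) (.leaf 0x0))))) (.node 251 (.node 248 (.node 247 (.leaf 0x0) (.leaf 0x0)) (.node 249 (.leaf 0x0) (.node 250 (.leaf 0x0) (.leaf 0x0)))) (.node 253 (.node 252 (.leaf 0x0) (.leaf 0x0)) (.node 254 (.leaf 0x0) (.node 255 (.leaf 0x0) (.leaf 0x0))))))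

def valStore_14 : Store := (.node 266 (.node 261 (.node 258 (.node 257 (.leaf 0x0) (.leaf 0x0)) (.node 259 (.leaf 0x0) (.node 260 (.leaf 0x0) (.leaf 0x0)))) (.node 263 (.node 262 (.leaf 0x0) (.leaf 0x0)) (.node 264 (.leaf 0x0) (.node 265 (.leaf 0x0) (.leaf 0x0))))) (.node 271 (.node 268 (.node 267 (.leaf 0x0) (.leaf 0x0)) (.node 269 (.leaf 0x0) (.node 270 (.leaf 0x0) (.leaf 0x0)))) (.node 273 (.node 272 (.leaf 0x0) (.leaf 0x0)) (.node 274 (.leaf 0x0) (.node 275 (.leaf 0x0) (.leaf 0x0))))))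

def valStore_15 : Store := (.node 286 (.node 281 (.node 278 (.node 277 (.leaf 0x0) (.leaf 0x0)) (.node 279 (.leaf 0x0) (.node 280 (.leaf 0x0) (.leaf 0x0)))) (.node 283 (.node 282 (.leaf 0x0) (.leaf 0x0)) (.node 284 (.leaf 0x0) (.node 285 (.leaf 0x0) (.leaf 0x0))))) (.node 291 (.node 288 (.node 287 (.leaf 0x0) (.leaf 0x0)) (.node 289 (.leaf 0x0) (.node 290 (.leaf 0x0) (.leaf 0x0)))) (.node 293 (.node 292 (.leaf 0x0) (.leaf 0x0)) (.node 294 (.leaf 0x0) (.node 295 (.leaf 0x0) (.leaf 0x0))))))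

def valStore_16 : Store := (.node 306 (.node 301 (.node 298 (.node 297 (.leaf 0x0) (.leaf 0x0)) (.node 299 (.leaf 0x0) (.node 300 (.leaf 0x0) (.leaf 0x0)))) (.node 303 (.node 302 (.leaf 0x0) (.leaf 0x0)) (.node 304 (.leaf 0x0) (.node 305 (.leaf 0x0) (.leaf 0x0))))) (.node 311 (.node 308 (.node 307 (.leaf 0x0) (.leaf 0x0)) (.node 309 (.leaf 0x0) (.node 310 (.leaf 0x0) (.leaf 0x0)))) (.node 313 (.node 312 (.leaf 0x0) (.leaf 0x0)) (.node 314 (.leaf 0x0) (.node 315 (.leaf 0x0) (.leaf 0x0))))))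

def valStore_17 : Store := (.node 158 (.node 79 (.node 39 (.node 19 valStore_1 valStore_2) (.node 59 valStore_3 valStore_4)) (.node 118 (.node 98 valStore_5 valStore_6) (.node 138 valStore_7 valStore_8))) (.node 237 (.node 197 (.node 177 valStore_9 valStore_10) (.node 217 valStore_11 valStore_12)) (.node 276 (.node 256 valStore_13 valStore_14) (.node 296 valStore_15 valStore_16))))

def valStore_18 : Store := (.node 325 (.node 320 (.node 318 (.node 317 (.leaf 0x0) (.leaf 0x0)) (.node 319 (.leaf 0x0) (.leaf 0x0))) (.node 322 (.node 321 (.leaf 0x0) (.leaf 0x0)) (.node 323 (.leaf 0x0) (.node 324 (.leaf 0x0) (.leaf 0x0))))) (.node 330 (.node 327 (.node 326 (.leaf 0x0) (.leaf 0x0)) (.node 328 (.leaf 0x0) (.node 329 (.leaf 0x0) (.leaf 0x0)))) (.node 332 (.node 331 (.leaf 0x0) (.leaf 0x0)) (.node 333 (.leaf 0x0) (.node 334 (.leaf 0x0) (.leaf 0x0))))))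

def valStore_19 : Store := (.node 345 (.node 340 (.node 337 (.node 336 (.leaf 0x0) (.leaf 0x0)) (.node 338 (.leaf 0x0) (.node 339 (.leaf 0x0) (.leaf 0x0)))) (.node 342 (.node 341 (.leaf 0x0) (.leaf 0x0)) (.node 343 (.leaf 0x0) (.node 344 (.leaf 0x0) (.leaf 0x0))))) (.node 350 (.node 347 (.node 346 (.leaf 0x0) (.leaf 0x0)) (.node 348 (.leaf 0x0) (.node 349 (.leaf 0x0) (.leaf 0x0)))) (.node 352 (.node 351 (.leaf 0x0) (.leaf 0x0)) (.node 353 (.leaf 0x0) (.node 354 (.leaf 0x0) (.leaf 0x0))))))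

def valStore_20 : Store := (.node 365 (.node 360 (.node 357 (.node 356 (.leaf 0x0) (.leaf 0x0)) (.node 358 (.leaf 0x0) (.node 359 (.leaf 0x0) (.leaf 0x0)))) (.node 362 (.node 361 (.leaf 0x0) (.leaf 0x0)) (.node 363 (.leaf 0x0) (.node 364 (.leaf 0x0) (.leaf 0x0))))) (.node 370 (.node 367 (.node 366 (.leaf 0x0) (.leaf 0x0)) (.node 368 (.leaf 0x0) (.node 369 (.leaf 0x0) (.leaf 0x0)))) (.node 372 (.node 371 (.leaf 0x0) (.leaf 0x0)) (.node 373 (.leaf 0x0) (.node 374 (.leaf 0x0) (.leaf 0x0))))))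

def valStore_21 : Store := (.node 385 (.node 380 (.node 377 (.node 376 (.leaf 0x0) (.leaf 0x0)) (.node 378 (.leaf 0x0) (.node 379 (.leaf 0x0) (.leaf 0x0)))) (.node 382 (.node 381 (.leaf 0x0) (.leaf 0x0)) (.node 383 (.leaf 0x0) (.node 384 (.leaf 0x0) (.leaf 0x0))))) (.node 390 (.node 387 (.node 386 (.leaf 0x0) (.leaf 0x0)) (.node 388 (.leaf 0x0) (.node 389 (.leaf 0x0) (.leaf 0x0)))) (.node 392 (.node 391 (.leaf 0x0) (.leaf 0x0)) (.node 393 (.leaf 0x0) (.node 394 (.leaf 0x0) (.leaf 0x0))))))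

def valStore_22 : Store := (.node 404 (.node 399 (.node 397 (.node 396 (.leaf 0x0) (.leaf 0x0)) (.node 398 (.leaf 0x0) (.leaf 0x0))) (.node 401 (.node 400 (.leaf 0x0) (.leaf 0x0)) (.node 402 (.leaf 0x0) (.node 403 (.leaf 0x0) (.leaf 0x0))))) (.node 409 (.node 406 (.node 405 (.leaf 0x0) (.leaf 0x0)) (.node 407 (.leaf 0x0) (.node 408 (.leaf 0x0) (.leaf 0x0)))) (.node 411 (.node 410 (.leaf 0x0) (.leaf 0x0)) (.node 412 (.leaf 0x0) (.node 413 (.leaf 0x0) (.leaf 0x0))))))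

def valStore_23 : Store := (.node 424 (.node 419 (.node 416 (.node 415 (.leaf 0x0) (.leaf 0x0)) (.node 417 (.leaf 0x0) (.node 418 (.leaf 0x0) (.leaf 0x0)))) (.node 421 (.node 420 (.leaf 0x0) (.leaf 0x0)) (.node 422 (.leaf 0x0) (.node 423 (.leaf 0x0) (.leaf 0x0))))) (.node 429 (.node 426 (.node 425 (.leaf 0x0) (.leaf 0x0)) (.node 427 (.leaf 0x0) (.node 428 (.leaf 0x0) (.leaf 0x0)))) (.node 431 (.node 430 (.leaf 0x0) (.leaf 0x0)) (.node 432 (.leaf 0x0) (.node 433 (.leaf 0x0) (.leaf 0x0))))))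

def valStore_24 : Store := (.node 444 (.node 439 (.node 436 (.node 435 (.leaf 0x0) (.leaf 0x0)) (.node 437 (.leaf 0x0) (.node 438 (.leaf 0x0) (.leaf 0x0)))) (.node 441 (.node 440 (.leaf 0x0) (.leaf 0x0)) (.node 442 (.leaf 0x0) (.node 443 (.leaf 0x0) (.leaf 0x0))))) (.node 449 (.node 446 (.node 445 (.leaf 0x0) (.leaf 0x0)) (.node 447 (.leaf 0x0) (.node 448 (.leaf 0x0) (.leaf 0x0)))) (.node 451 (.node 450 (.leaf 0x0) (.leaf 0x0)) (.node 452 (.leaf 0x0) (.node 453 (.leaf 0x0) (.leaf 0x0))))))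

def valStore_25 : Store := (.node 464 (.node 459 (.node 456 (.node 455 (.leaf 0x0) (.leaf 0x0)) (.node 457 (.leaf 0x0) (.node 458 (.leaf 0x0) (.leaf 0x0)))) (.node 461 (.node 460 (.leaf 0x0) (.leaf 0x0)) (.node 462 (.leaf 0x0) (.node 463 (.leaf 0x0) (.leaf 0x0))))) (.node 469 (.node 466 (.node 465 (.leaf 0x0) (.leaf 0x0)) (.node 467 (.leaf 0x0) (.node 468 (.leaf 0x0) (.leaf 0x0)))) (.node 471 (.node 470 (.leaf 0x0) (.leaf 0x0)) (.node 472 (.leaf 0x0) (.node 473 (.leaf 0x0) (.leaf 0x0))))))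

def valStore_26 : Store := (.node 483 (.node 478 (.node 476 (.node 475 (.leaf 0x0) (.leaf 0x0)) (.node 477 (.leaf 0x0) (.leaf 0x0))) (.node 480 (.node 479 (.leaf 0x0) (.leaf 0x0)) (.node 481 (.leaf 0x0) (.node 482 (.leaf 0x0) (.leaf 0x0))))) (.node 488 (.node 485 (.node 484 (.leaf 0x0) (.leaf 0x0)) (.node 486 (.leaf 0x0) (.node 487 (.leaf 0x0) (.leaf 0x0)))) (.node 490 (.node 489 (.leaf 0x0) (.leaf 0x0)) (.node 491 (.leaf 0x0) (.node 492 (.leaf 0x0) (.leaf 0x0))))))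

def valStore_27 : Store := (.node 503 (.node 498 (.node 495 (.node 494 (.leaf 0x0) (.leaf 0x0)) (.node 496 (.leaf 0x0) (.node 497 (.leaf 0x0) (.leaf 0x0)))) (.node 500 (.node 499 (.leaf 0x0) (.leaf 0x0)) (.node 501 (.leaf 0x0) (.node 502 (.leaf 0x0) (.leaf 0x0))))) (.node 508 (.node 505 (.node 504 (.leaf 0x0) (.leaf 0x0)) (.node 506 (.leaf 0x0) (.node 507 (.leaf 0x0) (.leaf 0x0)))) (.node 510 (.node 509 (.leaf 0x0) (.leaf 0x0)) (.node 511 (.leaf 0x0) (.node 512 (.leaf 0x0) (.leaf 0x0))))))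

def valStore_28 : Store := (.node 523 (.node 518 (.node 515 (.node 514 (.leaf 0x0) (.leaf 0x0)) (.node 516 (.leaf 0x0) (.node 517 (.leaf 0x0) (.leaf 0x0)))) (.node 520 (.node 519 (.leaf 0x0) (.leaf 0x0)) (.node 521 (.leaf 0x0) (.node 522 (.leaf 0x0) (.leaf 0x0))))) (.node 528 (.node 525 (.node 524 (.leaf 0x0) (.leaf 0x0)) (.node 526 (.leaf 0x0) (.node 527 (.leaf 0x0) (.leaf 0x0)))) (.node 530 (.node 529 (.leaf 0x0) (.leaf 0x0)) (.node 531 (.leaf 0x0) (.node 532 (.leaf 0x0) (.leaf 0x0))))))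

def valStore_29 : Store := (.node 543 (.node 538 (.node 535 (.node 534 (.leaf 0x0) (.leaf 0x0)) (.node 536 (.leaf 0x0) (.node 537 (.leaf 0x0) (.leaf 0x0)))) (.node 540 (.node 539 (.leaf 0x0) (.leaf 0x0)) (.node 541 (.leaf 0x0) (.node 542 (.leaf 0x0) (.leaf 0x0))))) (.node 548 (.node 545 (.node 544 (.leaf 0x0) (.leaf 0x0)) (.node 546 (.leaf 0x0) (.node 547 (.leaf 0x0) (.leaf 0x0)))) (.node 550 (.node 549 (.leaf 0x0) (.leaf 0x0)) (.node 551 (.leaf 0x0) (.node 552 (.leaf 0x0) (.leaf 0x0))))))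

def valStore_30 : Store := (.node 562 (.node 557 (.node 555 (.node 554 (.leaf 0x0) (.leaf 0x0)) (.node 556 (.leaf 0x0) (.leaf 0x0))) (.node 559 (.node 558 (.leaf 0x0) (.leaf 0x0)) (.node 560 (.leaf 0x0) (.node 561 (.leaf 0x0) (.leaf 0x0))))) (.node 567 (.node 564 (.node 563 (.leaf 0x0) (.leaf 0x0)) (.node 565 (.leaf 0x0) (.node 566 (.leaf 0x0) (.leaf 0x0)))) (.node 569 (.node 568 (.leaf 0x0) (.leaf 0x0)) (.node 570 (.leaf 0x0) (.node 571 (.leaf 0x0) (.leaf 0x0))))))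

def valStore_31 : Store := (.node 582 (.node 577 (.node 574 (.node 573 (.leaf 0x0) (.leaf 0x0)) (.node 575 (.leaf 0x0) (.node 576 (.leaf 0x0) (.leaf 0x0)))) (.node 579 (.node 578 (.leaf 0x0) (.leaf 0x0)) (.node 580 (.leaf 0x0) (.node 581 (.leaf 0x0) (.leaf 0x0))))) (.node 587 (.node 584 (.node 583 (.leaf 0x0) (.leaf 0x0)) (.node 585 (.leaf 0x0) (.node 586 (.leaf 0x0) (.leaf 0x0)))) (.node 589 (.node 588 (.leaf 0x0) (.leaf 0x0)) (.node 590 (.leaf 0x0) (.node 591 (.leaf 0x0) (.leaf 0x0))))))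

def valStore_32 : Store := (.node 602 (.node 597 (.node 594 (.node 593 (.leaf 0x0) (.leaf 0x0)) (.node 595 (.leaf 0x0) (.node 596 (.leaf 0x0) (.leaf 0x0)))) (.node 599 (.node 598 (.leaf 0x0) (.leaf 0x0)) (.node 600 (.leaf 0x0) (.node 601 (.leaf 0x0) (.leaf 0x0))))) (.node 607 (.node 604 (.node 603 (.leaf 0x0) (.leaf 0x0)) (.node 605 (.leaf 0x0) (.node 606 (.leaf 0x0) (.leaf 0x0)))) (.node 609 (.node 608 (.leaf 0x0) (.leaf 0x0)) (.node 610 (.leaf 0x0) (.node 611 (.leaf 0x0) (.leaf 0x0))))))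

def valStore_33 : Store := (.node 622 (.node 617 (.node 614 (.node 613 (.leaf 0x0) (.leaf 0x0)) (.node 615 (.leaf 0x0) (.node 616 (.leaf 0x0) (.leaf 0x0)))) (.node 619 (.node 618 (.leaf 0x0) (.leaf 0x0)) (.node 620 (.leaf 0x0) (.node 621 (.leaf 0x0) (.leaf 0x0))))) (.node 627 (.node 624 (.node 623 (.leaf 0x0) (.leaf 0x0)) (.node 625 (.leaf 0x0) (.node 626 (.leaf 0x0) (.leaf 0x0)))) (.node 629 (.node 628 (.leaf 0x0) (.leaf 0x0)) (.node 630 (.leaf 0x0) (.node 631 (.leaf 0x0) (.leaf 0x0))))))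

def valStore_34 : Store := (.node 474 (.node 395 (.node 355 (.node 335 valStore_18 valStore_19) (.node 375 valStore_20 valStore_21)) (.node 434 (.node 414 valStore_22 valStore_23) (.node 454 valStore_24 valStore_25))) (.node 553 (.node 513 (.node 493 valStore_26 valStore_27) (.node 533 valStore_28 valStore_29)) (.node 592 (.node 572 valStore_30 valStore_31) (.node 612 valStore_32 valStore_33))))

def valStore_35 : Store := (.node 641 (.node 636 (.node 634 (.node 633 (.leaf 0x0) (.leaf 0x0)) (.node 635 (.leaf 0x0) (.leaf 0x0))) (.node 638 (.node 637 (.leaf 0x0) (.leaf 0x0)) (.node 639 (.leaf 0x0) (.node 640 (.leaf 0x0) (.leaf 0x0))))) (.node 646 (.node 643 (.node 642 (.leaf 0x0) (.leaf 0x0)) (.node 644 (.leaf 0x0) (.node 645 (.leaf 0x0) (.leaf 0x0)))) (.node 648 (.node 647 (.leaf 0x0) (.leaf 0x0)) (.node 649 (.leaf 0x0) (.node 650 (.leaf 0x0) (.leaf 0x0))))))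

def valStore_36 : Store := (.node 661 (.node 656 (.node 653 (.node 652 (.leaf 0x0) (.leaf 0x0)) (.node 654 (.leaf 0x0) (.node 655 (.leaf 0x0) (.leaf 0x0)))) (.node 658 (.node 657 (.leaf 0x0) (.leaf 0x0)) (.node 659 (.leaf 0x0) (.node 660 (.leaf 0x0) (.leaf 0x0))))) (.node 666 (.node 663 (.node 662 (.leaf 0x0) (.leaf 0x0)) (.node 664 (.leaf 0x0) (.node 665 (.leaf 0x0) (.leaf 0x0)))) (.node 668 (.node 667 (.leaf 0x0) (.leaf 0x0)) (.node 669 (.leaf 0x0) (.node 670 (.leaf 0x0) (.leaf 0x0))))))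

def valStore_37 : Store := (.node 681 (.node 676 (.node 673 (.node 672 (.leaf 0x0) (.leaf 0x0)) (.node 674 (.leaf 0x0) (.node 675 (.leaf 0x0) (.leaf 0x0)))) (.node 678 (.node 677 (.leaf 0x0) (.leaf 0x0)) (.node 679 (.leaf 0x0) (.node 680 (.leaf 0x0) (.leaf 0x0))))) (.node 686 (.node 683 (.node 682 (.leaf 0x0) (.leaf 0x0)) (.node 684 (.leaf 0x0) (.node 685 (.leaf 0x0) (.leaf 0x0)))) (.node 688 (.node 687 (.leaf 0x0) (.leaf 0x0)) (.node 689 (.leaf 0x0) (.node 690 (.leaf 0x0) (.leaf 0x0))))))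

def valStore_38 : Store := (.node 701 (.node 696 (.node 693 (.node 692 (.leaf 0x0) (.leaf 0x0)) (.node 694 (.leaf 0x0) (.node 695 (.leaf 0x0) (.leaf 0x0)))) (.node 698 (.node 697 (.leaf 0x0) (.leaf 0x0)) (.node 699 (.leaf 0x0) (.node 700 (.leaf 0x0) (.leaf 0x0))))) (.node 706 (.node 703 (.node 702 (.leaf 0x0) (.leaf 0x0)) (.node 704 (.leaf 0x0) (.node 705 (.leaf 0x0) (.leaf 0x0)))) (.node 708 (.node 707 (.leaf 0x0) (.leaf 0x0)) (.node 709 (.leaf 0x0) (.node 710 (.leaf 0x0) (.leaf 0x0))))))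

def valStore_39 : Store := (.node 720 (.node 715 (.node 713 (.node 712 (.leaf 0x0) (.leaf 0x0)) (.node 714 (.leaf 0x0) (.leaf 0x0))) (.node 717 (.node 716 (.leaf 0x0) (.leaf 0x0)) (.node 718 (.leaf 0x0) (.node 719 (.leaf 0x0) (.leaf 0x0))))) (.node 725 (.node 722 (.node 721 (.leaf 0x0) (.leaf 0x0)) (.node 723 (.leaf 0x0) (.node 724 (.leaf 0x0) (.leaf 0x0)))) (.node 727 (.node 726 (.leaf 0x0) (.leaf 0x0)) (.node 728 (.leaf 0x0) (.node 729 (.leaf 0x0) (.leaf 0x0))))))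

def valStore_40 : Store := (.node 740 (.node 735 (.node 732 (.node 731 (.leaf 0x0) (.leaf 0x0)) (.node 733 (.leaf 0x0) (.node 734 (.leaf 0x0) (.leaf 0x0)))) (.node 737 (.node 736 (.leaf 0x0) (.leaf 0x0)) (.node 738 (.leaf 0x0) (.node 739 (.leaf 0x0) (.leaf 0x0))))) (.node 745 (.node 742 (.node 741 (.leaf 0x0) (.leaf 0x0)) (.node 743 (.leaf 0x0) (.node 744 (.leaf 0x0) (.leaf 0x0)))) (.node 747 (.node 746 (.leaf 0x0) (.leaf 0x0)) (.node 748 (.leaf 0x0) (.node 749 (.leaf 0x0) (.leaf 0x0))))))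

def valStore_41 : Store := (.node 760 (.node 755 (.node 752 (.node 751 (.leaf 0x0) (.leaf 0x0)) (.node 753 (.leaf 0x0) (.node 754 (.leaf 0x0) (.leaf 0x0)))) (.node 757 (.node 756 (.leaf 0x0) (.leaf 0x0)) (.node 758 (.leaf 0x0) (.node 759 (.leaf 0x0) (.leaf 0x0))))) (.node 765 (.node 762 (.node 761 (.leaf 0x0) (.leaf 0x0)) (.node 763 (.leaf 0x0) (.node 764 (.leaf 0x0) (.leaf 0x0)))) (.node 767 (.node 766 (.leaf 0x0) (.leaf 0x0)) (.node 768 (.leaf 0x0) (.node 769 (.leaf 0x0) (.leaf 0x0))))))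

def valStore_42 : Store := (.node 780 (.node 775 (.node 772 (.node 771 (.leaf 0x0) (.leaf 0x0)) (.node 773 (.leaf 0x0) (.node 774 (.leaf 0x0) (.leaf 0x0)))) (.node 777 (.node 776 (.leaf 0x0) (.leaf 0x0)) (.node 778 (.leaf 0x0) (.node 779 (.leaf 0x0) (.leaf 0x0))))) (.node 785 (.node 782 (.node 781 (.leaf 0x0) (.leaf 0x0)) (.node 783 (.leaf 0x0) (.node 784 (.leaf 0x0) (.leaf 0x0)))) (.node 787 (.node 786 (.leaf 0x0) (.leaf 0x0)) (.node 788 (.leaf 0x0) (.node 789 (.leaf 0x0) (.leaf 0x0))))))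

def valStore_43 : Store := (.node 799 (.node 794 (.node 792 (.node 791 (.leaf 0x0) (.leaf 0x0)) (.node 793 (.leaf 0x0) (.leaf 0x0))) (.node 796 (.node 795 (.leaf 0x0) (.leaf 0x0)) (.node 797 (.leaf 0x0) (.node 798 (.leaf 0x0) (.leaf 0x0))))) (.node 804 (.node 801 (.node 800 (.leaf 0x0) (.leaf 0x0)) (.node 802 (.leaf 0x0) (.node 803 (.leaf 0x0) (.leaf 0x0)))) (.node 806 (.node 805 (.leaf 0x0) (.leaf 0x0)) (.node 807 (.leaf 0x0) (.node 808 (.leaf 0x0) (.leaf 0x0))))))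

def valStore_44 : Store := (.node 819 (.node 814 (.node 811 (.node 810 (.leaf 0x0) (.leaf 0x0)) (.node 812 (.leaf 0x0) (.node 813 (.leaf 0x0) (.leaf 0x0)))) (.node 816 (.node 815 (.leaf 0x0) (.leaf 0x0)) (.node 817 (.leaf 0x0) (.node 818 (.leaf 0x0) (.leaf 0x0))))) (.node 824 (.node 821 (.node 820 (.leaf 0x0) (.leaf 0x0)) (.node 822 (.leaf 0x0) (.node 823 (.leaf 0x0) (.leaf 0x0)))) (.node 826 (.node 825 (.leaf 0x0) (.leaf 0x0)) (.node 827 (.leaf 0x0) (.node 828 (.leaf 0x0) (.leaf 0x0))))))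

def valStore_45 : Store := (.node 839 (.node 834 (.node 831 (.node 830 (.leaf 0x0) (.leaf 0x0)) (.node 832 (.leaf 0x0) (.node 833 (.leaf 0x0) (.leaf 0x0)))) (.node 836 (.node 835 (.leaf 0x0) (.leaf 0x0)) (.node 837 (.leaf 0x0) (.node 838 (.leaf 0x0) (.leaf 0x0))))) (.node 844 (.node 841 (.node 840 (.leaf 0x0) (.leaf 0x0)) (.node 842 (.leaf 0x0) (.node 843 (.leaf 0x0) (.leaf 0x0)))) (.node 846 (.node 845 (.leaf 0x0) (.leaf 0x0)) (.node 847 (.leaf 0x0) (.node 848 (.leaf 0x0) (.leaf 0x0))))))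

def valStore_46 : Store := (.node 859 (.node 854 (.node 851 (.node 850 (.leaf 0x0) (.leaf 0x0)) (.node 852 (.leaf 0x0) (.node 853 (.leaf 0x0) (.leaf 0x0)))) (.node 856 (.node 855 (.leaf 0x0) (.leaf 0x0)) (.node 857 (.leaf 0x0) (.node 858 (.leaf 0x0) (.leaf 0x0))))) (.node 864 (.node 861 (.node 860 (.leaf 0x0) (.leaf 0x0)) (.node 862 (.leaf 0x0) (.node 863 (.leaf 0x0) (.leaf 0x0)))) (.node 866 (.node 865 (.leaf 0x0) (.leaf 0x0)) (.node 867 (.leaf 0x0) (.node 868 (.leaf 0x0) (.leaf 0x0))))))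

def valStore_47 : Store := (.node 878 (.node 873 (.node 871 (.node 870 (.leaf 0x0) (.leaf 0x0)) (.node 872 (.leaf 0x0) (.leaf 0x0))) (.node 875 (.node 874 (.leaf 0x0) (.leaf 0x0)) (.node 876 (.leaf 0x0) (.node 877 (.leaf 0x0) (.leaf 0x0))))) (.node 883 (.node 880 (.node 879 (.leaf 0x0) (.leaf 0x0)) (.node 881 (.leaf 0x0) (.node 882 (.leaf 0x0) (.leaf 0x0)))) (.node 885 (.node 884 (.leaf 0x0) (.leaf 0x0)) (.node 886 (.leaf 0x0) (.node 887 (.leaf 0x0) (.leaf 0x0))))))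

def valStore_48 : Store := (.node 898 (.node 893 (.node 890 (.node 889 (.leaf 0x0) (.leaf 0x0)) (.node 891 (.leaf 0x0) (.node 892 (.leaf 0x0) (.leaf 0x0)))) (.node 895 (.node 894 (.leaf 0x0) (.leaf 0x0)) (.node 896 (.leaf 0x0) (.node 897 (.leaf 0x0) (.leaf 0x0))))) (.node 903 (.node 900 (.node 899 (.leaf 0x0) (.leaf 0x0)) (.node 901 (.leaf 0x0) (.node 902 (.leaf 0x0) (.leaf 0x0)))) (.node 905 (.node 904 (.leaf 0x0) (.leaf 0x0)) (.node 906 (.leaf 0x0) (.node 907 (.leaf 0x0) (.leaf 0x0))))))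

def valStore_49 : Store := (.node 918 (.node 913 (.node 910 (.node 909 (.leaf 0x0) (.leaf 0x0)) (.node 911 (.leaf 0x0) (.node 912 (.leaf 0x0) (.leaf 0x0)))) (.node 915 (.node 914 (.leaf 0x0) (.leaf 0x0)) (.node 916 (.leaf 0x0) (.node 917 (.leaf 0x0) (.leaf 0x0))))) (.node 923 (.node 920 (.node 919 (.leaf 0x0) (.leaf 0x0)) (.node 921 (.leaf 0x0) (.node 922 (.leaf 0x0) (.leaf 0x0)))) (.node 925 (.node 924 (.leaf 0x0) (.leaf 0x0)) (.node 926 (.leaf 0x0) (.node 927 (.leaf 0x0) (.leaf 0x0))))))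

def valStore_50 : Store := (.node 938 (.node 933 (.node 930 (.node 929 (.leaf 0x0) (.leaf 0x0)) (.node 931 (.leaf 0x0) (.node 932 (.leaf 0x0) (.leaf 0x0)))) (.node 935 (.node 934 (.leaf 0x0) (.leaf 0x0)) (.node 936 (.leaf 0x0) (.node 937 (.leaf 0x0) (.leaf 0x0))))) (.node 943 (.node 940 (.node 939 (.leaf 0x0) (.leaf 0x0)) (.node 941 (.leaf 0x0) (.node 942 (.leaf 0x0) (.leaf 0x0)))) (.node 945 (.node 944 (.leaf 0x0) (.leaf 0x0)) (.node 946 (.leaf 0x0) (.node 947 (.leaf 0x0) (.leaf 0x0))))))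

def valStore_51 : Store := (.node 790 (.node 711 (.node 671 (.node 651 valStore_35 valStore_36) (.node 691 valStore_37 valStore_38)) (.node 750 (.node 730 valStore_39 valStore_40) (.node 770 valStore_41 valStore_42))) (.node 869 (.node 829 (.node 809 valStore_43 valStore_44) (.node 849 valStore_45 valStore_46)) (.node 908 (.node 888 valStore_47 valStore_48) (.node 928 valStore_49 valStore_50))))

def valStore_52 : Store := (.node 957 (.node 952 (.node 950 (.node 949 (.leaf 0x0) (.leaf 0x0)) (.node 951 (.leaf 0x0) (.leaf 0x0))) (.node 954 (.node 953 (.leaf 0x0) (.leaf 0x0)) (.node 955 (.leaf 0x0) (.node 956 (.leaf 0x0) (.leaf 0x0))))) (.node 962 (.node 959 (.node 958 (.leaf 0x0) (.leaf 0x0)) (.node 960 (.leaf 0x0) (.node 961 (.leaf 0x0) (.leaf 0x0)))) (.node 964 (.node 963 (.leaf 0x0) (.leaf 0x0)) (.node 965 (.leaf 0x0) (.node 966 (.leaf 0x0) (.leaf 0x0))))))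

def valStore_53 : Store := (.node 977 (.node 972 (.node 969 (.node 968 (.leaf 0x0) (.leaf 0x0)) (.node 970 (.leaf 0x0) (.node 971 (.leaf 0x0) (.leaf 0x0)))) (.node 974 (.node 973 (.leaf 0x0) (.leaf 0x0)) (.node 975 (.leaf 0x0) (.node 976 (.leaf 0x0) (.leaf 0x0))))) (.node 982 (.node 979 (.node 978 (.leaf 0x0) (.leaf 0x0)) (.node 980 (.leaf 0x0) (.node 981 (.leaf 0x0) (.leaf 0x0)))) (.node 984 (.node 983 (.leaf 0x0) (.leaf 0x0)) (.node 985 (.leaf 0x0) (.node 986 (.leaf 0x0) (.leaf 0x0))))))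

def valStore_54 : Store := (.node 997 (.node 992 (.node 989 (.node 988 (.leaf 0x0) (.leaf 0x0)) (.node 990 (.leaf 0x0) (.node 991 (.leaf 0x0) (.leaf 0x0)))) (.node 994 (.node 993 (.leaf 0x0) (.leaf 0x0)) (.node 995 (.leaf 0x0) (.node 996 (.leaf 0x0) (.leaf 0x0))))) (.node 1002 (.node 999 (.node 998 (.leaf 0x0) (.leaf 0x0)) (.node 1000 (.leaf 0x0) (.node 1001 (.leaf 0x0) (.leaf 0x0)))) (.node 1004 (.node 1003 (.leaf 0x0) (.leaf 0x0)) (.node 1005 (.leaf 0x0) (.node 1006 (.leaf 0x0) (.leaf 0x0))))))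

def valStore_55 : Store := (.node 1017 (.node 1012 (.node 1009 (.node 1008 (.leaf 0x0) (.leaf 0x0)) (.node 1010 (.leaf 0x0) (.node 1011 (.leaf 0x0) (.leaf 0x0)))) (.node 1014 (.node 1013 (.leaf 0x0) (.leaf 0x0)) (.node 1015 (.leaf 0x0) (.node 1016 (.leaf 0x0) (.leaf 0x0))))) (.node 1022 (.node 1019 (.node 1018 (.leaf 0x0) (.leaf 0x0)) (.node 1020 (.leaf 0x0) (.node 1021 (.leaf 0x0) (.leaf 0x0)))) (.node 1024 (.node 1023 (.leaf 0x0) (.leaf 0x0)) (.node 1025 (.leaf 0x0) (.node 1026 (.leaf 0x0) (.leaf 0x0))))))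

def valStore_56 : Store := (.node 1036 (.node 1031 (.node 1029 (.node 1028 (.leaf 0x0) (.leaf 0x0)) (.node 1030 (.leaf 0x0) (.leaf 0x0))) (.node 1033 (.node 1032 (.leaf 0x0) (.leaf 0x0)) (.node 1034 (.leaf 0x0) (.node 1035 (.leaf 0x0) (.leaf 0x0))))) (.node 1041 (.node 1038 (.node 1037 (.leaf 0x0) (.leaf 0x0)) (.node 1039 (.leaf 0x0) (.node 1040 (.leaf 0x0) (.leaf 0x0)))) (.node 1043 (.node 1042 (.leaf 0x0) (.leaf 0x0)) (.node 1044 (.leaf 0x0) (.node 1045 (.leaf 0x0) (.leaf 0x0))))))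

def valStore_57 : Store := (.node 1056 (.node 1051 (.node 1048 (.node 1047 (.leaf 0x0) (.leaf 0x0)) (.node 1049 (.leaf 0x0) (.node 1050 (.leaf 0x0) (.leaf 0x0)))) (.node 1053 (.node 1052 (.leaf 0x0) (.leaf 0x0)) (.node 1054 (.leaf 0x0) (.node 1055 (.leaf 0x0) (.leaf 0x0))))) (.node 1061 (.node 1058 (.node 1057 (.leaf 0x0) (.leaf 0x0)) (.node 1059 (.leaf 0x0) (.node 1060 (.leaf 0x0) (.leaf 0x0)))) (.node 1063 (.node 1062 (.leaf 0x0) (.leaf 0x0)) (.node 1064 (.leaf 0x0) (.node 1065 (.leaf 0x0) (.leaf 0x0))))))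

def valStore_58 : Store := (.node 1076 (.node 1071 (.node 1068 (.node 1067 (.leaf 0x0) (.leaf 0x0)) (.node 1069 (.leaf 0x0) (.node 1070 (.leaf 0x0) (.leaf 0x0)))) (.node 1073 (.node 1072 (.leaf 0x0) (.leaf 0x0)) (.node 1074 (.leaf 0x0) (.node 1075 (.leaf 0x0) (.leaf 0x0))))) (.node 1081 (.node 1078 (.node 1077 (.leaf 0x0) (.leaf 0x0)) (.node 1079 (.leaf 0x0) (.node 1080 (.leaf 0x0) (.leaf 0x0)))) (.node 1083 (.node 1082 (.leaf 0x0) (.leaf 0x0)) (.node 1084 (.leaf 0x0) (.node 1085 (.leaf 0x0) (.leaf 0x0))))))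

def valStore_59 : Store := (.node 1096 (.node 1091 (.node 1088 (.node 1087 (.leaf 0x0) (.leaf 0x0)) (.node 1089 (.leaf 0x0) (.node 1090 (.leaf 0x0) (.leaf 0x0)))) (.node 1093 (.node 1092 (.leaf 0x0) (.leaf 0x0)) (.node 1094 (.leaf 0x0) (.node 1095 (.leaf 0x0) (.leaf 0x0))))) (.node 1101 (.node 1098 (.node 1097 (.leaf 0x0) (.leaf 0x0)) (.node 1099 (.leaf 0x0) (.node 1100 (.leaf 0x0) (.leaf 0x0)))) (.node 1103 (.node 1102 (.leaf 0x0) (.leaf 0x0)) (.node 1104 (.leaf 0x0) (.node 1105 (.leaf 0x0) (.leaf 0x0))))))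

def valStore_60 : Store := (.node 1115 (.node 1110 (.node 1108 (.node 1107 (.leaf 0x0) (.leaf 0x0)) (.node 1109 (.leaf 0x0) (.leaf 0x0))) (.node 1112 (.node 1111 (.leaf 0x0) (.leaf 0x0)) (.node 1113 (.leaf 0x0) (.node 1114 (.leaf 0x0) (.leaf 0x0))))) (.node 1120 (.node 1117 (.node 1116 (.leaf 0x0) (.leaf 0x0)) (.node 1118 (.leaf 0x0) (.node 1119 (.leaf 0x0) (.leaf 0x0)))) (.node 1122 (.node 1121 (.leaf 0x0) (.leaf 0x0)) (.node 1123 (.leaf 0x0) (.node 1124 (.leaf 0x0) (.leaf 0x0))))))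

def valStore_61 : Store := (.node 1135 (.node 1130 (.node 1127 (.node 1126 (.leaf 0x0) (.leaf 0x0)) (.node 1128 (.leaf 0x0) (.node 1129 (.leaf 0x0) (.leaf 0x0)))) (.node 1132 (.node 1131 (.leaf 0x0) (.leaf 0x0)) (.node 1133 (.leaf 0x0) (.node 1134 (.leaf 0x0) (.leaf 0x0))))) (.node 1140 (.node 1137 (.node 1136 (.leaf 0x0) (.leaf 0x0)) (.node 1138 (.leaf 0x0) (.node 1139 (.leaf 0x0) (.leaf 0x0)))) (.node 1142 (.node 1141 (.leaf 0x0) (.leaf 0x0)) (.node 1143 (.leaf 0x0) (.node 1144 (.leaf 0x0) (.leaf 0x0))))))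

def valStore_62 : Store := (.node 1155 (.node 1150 (.node 1147 (.node 1146 (.leaf 0x0) (.leaf 0x0)) (.node 1148 (.leaf 0x0) (.node 1149 (.leaf 0x0) (.leaf 0x0)))) (.node 1152 (.node 1151 (.leaf 0x0) (.leaf 0x0)) (.node 1153 (.leaf 0x0) (.node 1154 (.leaf 0x0) (.leaf 0x0))))) (.node 1160 (.node 1157 (.node 1156 (.leaf 0x0) (.leaf 0x0)) (.node 1158 (.leaf 0x0) (.node 1159 (.leaf 0x0) (.leaf 0x0)))) (.node 1162 (.node 1161 (.leaf 0x0) (.leaf 0x0)) (.node 1163 (.leaf 0x0) (.node 1164 (.leaf 0x0) (.leaf 0x0))))))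

def valStore_63 : Store := (.node 1175 (.node 1170 (.node 1167 (.node 1166 (.leaf 0x0) (.leaf 0x0)) (.node 1168 (.leaf 0x0) (.node 1169 (.leaf 0x0) (.leaf 0x0)))) (.node 1172 (.node 1171 (.leaf 0x0) (.leaf 0x0)) (.node 1173 (.leaf 0x0) (.node 1174 (.leaf 0x0) (.leaf 0x0))))) (.node 1180 (.node 1177 (.node 1176 (.leaf 0x0) (.leaf 0x0)) (.node 1178 (.leaf 0x0) (.node 1179 (.leaf 0x0) (.leaf 0x0)))) (.node 1182 (.node 1181 (.leaf 0x0) (.leaf 0x0)) (.node 1183 (.leaf 0x0) (.node 1184 (.leaf 0x0) (.leaf 0x0))))))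

def valStore_64 : Store := (.node 1194 (.node 1189 (.node 1187 (.node 1186 (.leaf 0x0) (.leaf 0x0)) (.node 1188 (.leaf 0x0) (.leaf 0x0))) (.node 1191 (.node 1190 (.leaf 0x0) (.leaf 0x0)) (.node 1192 (.leaf 0x0) (.node 1193 (.leaf 0x0) (.leaf 0x0))))) (.node 1199 (.node 1196 (.node 1195 (.leaf 0x0) (.leaf 0x0)) (.node 1197 (.leaf 0x0) (.node 1198 (.leaf 0x0) (.leaf 0x0)))) (.node 1201 (.node 1200 (.leaf 0x0) (.leaf 0x0)) (.node 1202 (.leaf 0x0) (.node 1203 (.leaf 0x0) (.leaf 0x0))))))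

def valStore_65 : Store := (.node 1214 (.node 1209 (.node 1206 (.node 1205 (.leaf 0x0) (.leaf 0x0)) (.node 1207 (.leaf 0x0) (.node 1208 (.leaf 0x0) (.leaf 0x0)))) (.node 1211 (.node 1210 (.leaf 0x0) (.leaf 0x0)) (.node 1212 (.leaf 0x0) (.node 1213 (.leaf 0x0) (.leaf 0x0))))) (.node 1219 (.node 1216 (.node 1215 (.leaf 0x0) (.leaf 0x0)) (.node 1217 (.leaf 0x0) (.node 1218 (.leaf 0x0) (.leaf 0x0)))) (.node 1221 (.node 1220 (.leaf 0x0) (.leaf 0x0)) (.node 1222 (.leaf 0x0) (.node 1223 (.leaf 0x0) (.leaf 0x0))))))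

def valStore_66 : Store := (.node 1234 (.node 1229 (.node 1226 (.node 1225 (.leaf 0x0) (.leaf 0x0)) (.node 1227 (.leaf 0x0) (.node 1228 (.leaf 0x0) (.leaf 0x0)))) (.node 1231 (.node 1230 (.leaf 0x0) (.leaf 0x0)) (.node 1232 (.leaf 0x0) (.node 1233 (.leaf 0x0) (.leaf 0x0))))) (.node 1239 (.node 1236 (.node 1235 (.leaf 0x0) (.leaf 0x0)) (.node 1237 (.leaf 0x0) (.node 1238 (.leaf 0x0) (.leaf 0x0)))) (.node 1241 (.node 1240 (.leaf 0x0) (.leaf 0x0)) (.node 1242 (.leaf 0x0) (.node 1243 (.leaf 0x0) (.leaf 0x0))))))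

def valStore_67 : Store := (.node 1254 (.node 1249 (.node 1246 (.node 1245 (.leaf 0x0) (.leaf 0x0)) (.node 1247 (.leaf 0x0) (.node 1248 (.leaf 0x0) (.leaf 0x0)))) (.node 1251 (.node 1250 (.leaf 0x0) (.leaf 0x0)) (.node 1252 (.leaf 0x0) (.node 1253 (.leaf 0x0) (.leaf 0x0))))) (.node 1259 (.node 1256 (.node 1255 (.leaf 0x0) (.leaf 0x0)) (.node 1257 (.leaf 0x0) (.node 1258 (.leaf 0x0) (.leaf 0x0)))) (.node 1261 (.node 1260 (.leaf 0x0) (.leaf 0x0)) (.node 1262 (.leaf 0x0) (.node 1263 (.leaf 0x0) (.leaf 0x0))))))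

def valStore_68 : Store := (.node 1106 (.node 1027 (.node 987 (.node 967 valStore_52 valStore_53) (.node 1007 valStore_54 valStore_55)) (.node 1066 (.node 1046 valStore_56 valStore_57) (.node 1086 valStore_58 valStore_59))) (.node 1185 (.node 1145 (.node 1125 valStore_60 valStore_61) (.node 1165 valStore_62 valStore_63)) (.node 1224 (.node 1204 valStore_64 valStore_65) (.node 1244 valStore_66 valStore_67))))

def valStore_69 : Store := (.node 1273 (.node 1268 (.node 1266 (.node 1265 (.leaf 0x0) (.leaf 0x0)) (.node 1267 (.leaf 0x0) (.leaf 0x0))) (.node 1270 (.node 1269 (.leaf 0x0) (.leaf 0x0)) (.node 1271 (.leaf 0x0) (.node 1272 (.leaf 0x0) (.leaf 0x0))))) (.node 1278 (.node 1275 (.node 1274 (.leaf 0x0) (.leaf 0x0)) (.node 1276 (.leaf 0x0) (.node 1277 (.leaf 0x0) (.leaf 0x0)))) (.node 1280 (.node 1279 (.leaf 0x0) (.leaf 0x0)) (.node 1281 (.leaf 0x0) (.node 1282 (.leaf 0x0) (.leaf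 0x0))))))

def valStore_70 : Store := (.node 1293 (.node 1288 (.node 1285 (.node 1284 (.leaf 0x0) (.leaf 0x0)) (.node 1286 (.leaf 0x0) (.node 1287 (.leaf 0x0) (.leaf 0x0)))) (.node 1290 (.node 1289 (.leaf 0x0) (.leaf 0x0)) (.node 1291 (.leaf 0x0) (.node 1292 (.leaf 0x0) (.leaf 0x0))))) (.node 1298 (.node 1295 (.node 1294 (.leaf 0x0) (.leaf 0x0)) (.node 1296 (.leaf 0x0) (.node 1297 (.leaf 0x0) (.leaf 0x0)))) (.node 1300 (.node 1299 (.leaf 0x0) (.leaf 0x0)) (.node 1301 (.leaf 0x0) (.node 1302 (.leaf 0x0) (.leaf 0x0))))))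

def valStore_71 : Store := (.node 1313 (.node 1308 (.node 1305 (.node 1304 (.leaf 0x0) (.leaf 0x0)) (.node 1306 (.leaf 0x0) (.node 1307 (.leaf 0x0) (.leaf 0x0)))) (.node 1310 (.node 1309 (.leaf 0x0) (.leaf 0x0)) (.node 1311 (.leaf 0x0) (.node 1312 (.leaf 0x0) (.leaf 0x0))))) (.node 1318 (.node 1315 (.node 1314 (.leaf 0x0) (.leaf 0x0)) (.node 1316 (.leaf 0x0) (.node 1317 (.leaf 0x0) (.leaf 0x0)))) (.node 1320 (.node 1319 (.leaf 0x0) (.leaf 0x0)) (.node 1321 (.leaf 0x0) (.node 1322 (.leaf 0x0) (.leaf 0x0))))))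

def valStore_72 : Store := (.node 1333 (.node 1328 (.node 1325 (.node 1324 (.leaf 0x0) (.leaf 0x0)) (.node 1326 (.leaf 0x0) (.node 1327 (.leaf 0x0) (.leaf 0x0)))) (.node 1330 (.node 1329 (.leaf 0x0) (.leaf 0x0)) (.node 1331 (.leaf 0x0) (.node 1332 (.leaf 0x0) (.leaf 0x0))))) (.node 1338 (.node 1335 (.node 1334 (.leaf 0x0) (.leaf 0x0)) (.node 1336 (.leaf 0x0) (.node 1337 (.leaf 0x0) (.leaf 0x0)))) (.node 1340 (.node 1339 (.leaf 0x0) (.leaf 0x0)) (.node 1341 (.leaf 0x0) (.node 1342 (.leaf 0x0) (.leaf 0x0))))))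

def valStore_73 : Store := (.node 1352 (.node 1347 (.node 1345 (.node 1344 (.leaf 0x0) (.leaf 0x0)) (.node 1346 (.leaf 0x0) (.leaf 0x0))) (.node 1349 (.node 1348 (.leaf 0x0) (.leaf 0x0)) (.node 1350 (.leaf 0x0) (.node 1351 (.leaf 0x0) (.leaf 0x0))))) (.node 1357 (.node 1354 (.node 1353 (.leaf 0x0) (.leaf 0x0)) (.node 1355 (.leaf 0x0) (.node 1356 (.leaf 0x0) (.leaf 0x0)))) (.node 1359 (.node 1358 (.leaf 0x0) (.leaf 0x0)) (.node 1360 (.leaf 0x0) (.node 1361 (.leaf 0x0) (.leaf 0x0))))))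

def valStore_74 : Store := (.node 1372 (.node 1367 (.node 1364 (.node 1363 (.leaf 0x0) (.leaf 0x0)) (.node 1365 (.leaf 0x0) (.node 1366 (.leaf 0x0) (.leaf 0x0)))) (.node 1369 (.node 1368 (.leaf 0x0) (.leaf 0x0)) (.node 1370 (.leaf 0x0) (.node 1371 (.leaf 0x0) (.leaf 0x0))))) (.node 1377 (.node 1374 (.node 1373 (.leaf 0x0) (.leaf 0x0)) (.node 1375 (.leaf 0x0) (.node 1376 (.leaf 0x0) (.leaf 0x0)))) (.node 1379 (.node 1378 (.leaf 0x0) (.leaf 0x0)) (.node 1380 (.leaf 0x0) (.node 1381 (.leaf 0x0) (.leaf 0x0))))))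

def valStore_75 : Store := (.node 1392 (.node 1387 (.node 1384 (.node 1383 (.leaf 0x0) (.leaf 0x0)) (.node 1385 (.leaf 0x0) (.node 1386 (.leaf 0x0) (.leaf 0x0)))) (.node 1389 (.node 1388 (.leaf 0x0) (.leaf 0x0)) (.node 1390 (.leaf 0x0) (.node 1391 (.leaf 0x0) (.leaf 0x0))))) (.node 1397 (.node 1394 (.node 1393 (.leaf 0x0) (.leaf 0x0)) (.node 1395 (.leaf 0x0) (.node 1396 (.leaf 0x0) (.leaf 0x0)))) (.node 1399 (.node 1398 (.leaf 0x0) (.leaf 0x0)) (.node 1400 (.leaf 0x0) (.node 1401 (.leaf 0x0) (.leaf 0x0))))))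

def valStore_76 : Store := (.node 1412 (.node 1407 (.node 1404 (.node 1403 (.leaf 0x0) (.leaf 0x0)) (.node 1405 (.leaf 0x0) (.node 1406 (.leaf 0x0) (.leaf 0x0)))) (.node 1409 (.node 1408 (.leaf 0x0) (.leaf 0x0)) (.node 1410 (.leaf 0x0) (.node 1411 (.leaf 0x0) (.leaf 0x0))))) (.node 1417 (.node 1414 (.node 1413 (.leaf 0x0) (.leaf 0x0)) (.node 1415 (.leaf 0x0) (.node 1416 (.leaf 0x0) (.leaf 0x0)))) (.node 1419 (.node 1418 (.leaf 0x0) (.leaf 0x0)) (.node 1420 (.leaf 0x0) (.node 1421 (.leaf 0x0) (.leaf 0x0))))))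

def valStore_77 : Store := (.node 1431 (.node 1426 (.node 1424 (.node 1423 (.leaf 0x0) (.leaf 0x0)) (.node 1425 (.leaf 0x0) (.leaf 0x0))) (.node 1428 (.node 1427 (.leaf 0x0) (.leaf 0x0)) (.node 1429 (.leaf 0x0) (.node 1430 (.leaf 0x0) (.leaf 0x0))))) (.node 1436 (.node 1433 (.node 1432 (.leaf 0x0) (.leaf 0x0)) (.node 1434 (.leaf 0x0) (.node 1435 (.leaf 0x0) (.leaf 0x0)))) (.node 1438 (.node 1437 (.leaf 0x0) (.leaf 0x0)) (.node 1439 (.leaf 0x0) (.node 1440 (.leaf 0x0) (.leaf 0x0))))))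

def valStore_78 : Store := (.node 1451 (.node 1446 (.node 1443 (.node 1442 (.leaf 0x0) (.leaf 0x0)) (.node 1444 (.leaf 0x0) (.node 1445 (.leaf 0x0) (.leaf 0x0)))) (.node 1448 (.node 1447 (.leaf 0x0) (.leaf 0x0)) (.node 1449 (.leaf 0x0) (.node 1450 (.leaf 0x0) (.leaf 0x0))))) (.node 1456 (.node 1453 (.node 1452 (.leaf 0x0) (.leaf 0x0)) (.node 1454 (.leaf 0x0) (.node 1455 (.leaf 0x0) (.leaf 0x0)))) (.node 1458 (.node 1457 (.leaf 0x0) (.leaf 0x0)) (.node 1459 (.leaf 0x0) (.node 1460 (.leaf 0x0) (.leaf 0x0))))))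

def valStore_79 : Store := (.node 1471 (.node 1466 (.node 1463 (.node 1462 (.leaf 0x0) (.leaf 0x0)) (.node 1464 (.leaf 0x0) (.node 1465 (.leaf 0x0) (.leaf 0x0)))) (.node 1468 (.node 1467 (.leaf 0x0) (.leaf 0x0)) (.node 1469 (.leaf 0x0) (.node 1470 (.leaf 0x0) (.leaf 0x0))))) (.node 1476 (.node 1473 (.node 1472 (.leaf 0x0) (.leaf 0x0)) (.node 1474 (.leaf 0x0) (.node 1475 (.leaf 0x0) (.leaf 0x0)))) (.node 1478 (.node 1477 (.leaf 0x0) (.leaf 0x0)) (.node 1479 (.leaf 0x0) (.node 1480 (.leaf 0x0) (.leaf 0x0))))))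

def valStore_80 : Store := (.node 1491 (.node 1486 (.node 1483 (.node 1482 (.leaf 0x0) (.leaf 0x0)) (.node 1484 (.leaf 0x0) (.node 1485 (.leaf 0x0) (.leaf 0x0)))) (.node 1488 (.node 1487 (.leaf 0x0) (.leaf 0x0)) (.node 1489 (.leaf 0x0) (.node 1490 (.leaf 0x0) (.leaf 0x0))))) (.node 1496 (.node 1493 (.node 1492 (.leaf 0x0) (.leaf 0x0)) (.node 1494 (.leaf 0x0) (.node 1495 (.leaf 0x0) (.leaf 0x0)))) (.node 1498 (.node 1497 (.leaf 0x0) (.leaf 0x0)) (.node 1499 (.leaf 0x0) (.node 1500 (.leaf 0x0) (.leaf 0x0))))))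

def valStore_81 : Store := (.node 1510 (.node 1505 (.node 1503 (.node 1502 (.leaf 0x0) (.leaf 0x0)) (.node 1504 (.leaf 0x0) (.leaf 0x0))) (.node 1507 (.node 1506 (.leaf 0x0) (.leaf 0x0)) (.node 1508 (.leaf 0x0) (.node 1509 (.leaf 0x0) (.leaf 0x0))))) (.node 1515 (.node 1512 (.node 1511 (.leaf 0x0) (.leaf 0x0)) (.node 1513 (.leaf 0x0) (.node 1514 (.leaf 0x0) (.leaf 0x0)))) (.node 1517 (.node 1516 (.leaf 0x0) (.leaf 0x0)) (.node 1518 (.leaf 0x0) (.node 1519 (.leaf 0x0) (.leaf 0x0))))))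

def valStore_82 : Store := (.node 1530 (.node 1525 (.node 1522 (.node 1521 (.leaf 0x0) (.leaf 0x0)) (.node 1523 (.leaf 0x0) (.node 1524 (.leaf 0x0) (.leaf 0x0)))) (.node 1527 (.node 1526 (.leaf 0x0) (.leaf 0x0)) (.node 1528 (.leaf 0x0) (.node 1529 (.leaf 0x0) (.leaf 0x0))))) (.node 1535 (.node 1532 (.node 1531 (.leaf 0x0) (.leaf 0x0)) (.node 1533 (.leaf 0x0) (.node 1534 (.leaf 0x0) (.leaf 0x0)))) (.node 1537 (.node 1536 (.leaf 0x0) (.leaf 0x0)) (.node 1538 (.leaf 0x0) (.node 1539 (.leaf 0x0) (.leaf 0x0))))))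

def valStore_83 : Store := (.node 1550 (.node 1545 (.node 1542 (.node 1541 (.leaf 0x0) (.leaf 0x0)) (.node 1543 (.leaf 0x0) (.node 1544 (.leaf 0x0) (.leaf 0x0)))) (.node 1547 (.node 1546 (.leaf 0x0) (.leaf 0x0)) (.node 1548 (.leaf 0x0) (.node 1549 (.leaf 0x0) (.leaf 0x0))))) (.node 1555 (.node 1552 (.node 1551 (.leaf 0x0) (.leaf 0x0)) (.node 1553 (.leaf 0x0) (.node 1554 (.leaf 0x0) (.leaf 0x0)))) (.node 1557 (.node 1556 (.leaf 0x0) (.leaf 0x0)) (.node 1558 (.leaf 0x0) (.node 1559 (.leaf 0x0) (.leaf 0x0))))))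

def valStore_84 : Store := (.node 1570 (.node 1565 (.node 1562 (.node 1561 (.leaf 0x0) (.leaf 0x0)) (.node 1563 (.leaf 0x0) (.node 1564 (.leaf 0x0) (.leaf 0x0)))) (.node 1567 (.node 1566 (.leaf 0x0) (.leaf 0x0)) (.node 1568 (.leaf 0x0) (.node 1569 (.leaf 0x0) (.leaf 0x0))))) (.node 1575 (.node 1572 (.node 1571 (.leaf 0x0) (.leaf 0x0)) (.node 1573 (.leaf 0x0) (.node 1574 (.leaf 0x0) (.leaf 0x0)))) (.node 1577 (.node 1576 (.leaf 0x0) (.leaf 0x0)) (.node 1578 (.leaf 0x0) (.node 1579 (.leaf 0x0) (.leaf 0x0))))))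

def valStore_85 : Store := (.node 1422 (.node 1343 (.node 1303 (.node 1283 valStore_69 valStore_70) (.node 1323 valStore_71 valStore_72)) (.node 1382 (.node 1362 valStore_73 valStore_74) (.node 1402 valStore_75 valStore_76))) (.node 1501 (.node 1461 (.node 1441 valStore_77 valStore_78) (.node 1481 valStore_79 valStore_80)) (.node 1540 (.node 1520 valStore_81 valStore_82) (.node 1560 valStore_83 valStore_84))))

def valStore_86 : Store := (.node 1589 (.node 1584 (.node 1582 (.node 1581 (.leaf 0x0) (.leaf 0x0)) (.node 1583 (.leaf 0x0) (.leaf 0x0))) (.node 1586 (.node 1585 (.leaf 0x0) (.leaf 0x0)) (.node 1587 (.leaf 0x0) (.node 1588 (.leaf 0x0) (.leaf 0x0))))) (.node 1594 (.node 1591 (.node 1590 (.leaf 0x0) (.leaf 0x0)) (.node 1592 (.leaf 0x0) (.node 1593 (.leaf 0x0) (.leaf 0x0)))) (.node 1596 (.node 1595 (.leaf 0x0) (.leaf 0x0)) (.node 1597 (.leaf 0x0) (.node 1598 (.leaf 0x0)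 (.leaf 0x0))))))

def valStore_87 : Store := (.node 1609 (.node 1604 (.node 1601 (.node 1600 (.leaf 0x0) (.leaf 0x0)) (.node 1602 (.leaf 0x0) (.node 1603 (.leaf 0x0) (.leaf 0x0)))) (.node 1606 (.node 1605 (.leaf 0x0) (.leaf 0x0)) (.node 1607 (.leaf 0x0) (.node 1608 (.leaf 0x0) (.leaf 0x0))))) (.node 1614 (.node 1611 (.node 1610 (.leaf 0x0) (.leaf 0x0)) (.node 1612 (.leaf 0x0) (.node 1613 (.leaf 0x0) (.leaf 0x0)))) (.node 1616 (.node 1615 (.leaf 0x0) (.leaf 0x0)) (.node 1617 (.leaf 0x0) (.node 1618 (.leaf 0x0) (.leaf 0x0))))))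

def valStore_88 : Store := (.node 1629 (.node 1624 (.node 1621 (.node 1620 (.leaf 0x0) (.leaf 0x0)) (.node 1622 (.leaf 0x0) (.node 1623 (.leaf 0x0) (.leaf 0x0)))) (.node 1626 (.node 1625 (.leaf 0x0) (.leaf 0x0)) (.node 1627 (.leaf 0x0) (.node 1628 (.leaf 0x0) (.leaf 0x0))))) (.node 1634 (.node 1631 (.node 1630 (.leaf 0x0) (.leaf 0x0)) (.node 1632 (.leaf 0x0) (.node 1633 (.leaf 0x0) (.leaf 0x0)))) (.node 1636 (.node 1635 (.leaf 0x0) (.leaf 0x0)) (.node 1637 (.leaf 0x0) (.node 1638 (.leaf 0x0) (.leaf 0x0))))))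

def valStore_89 : Store := (.node 1649 (.node 1644 (.node 1641 (.node 1640 (.leaf 0x0) (.leaf 0x0)) (.node 1642 (.leaf 0x0) (.node 1643 (.leaf 0x0) (.leaf 0x0)))) (.node 1646 (.node 1645 (.leaf 0x0) (.leaf 0x0)) (.node 1647 (.leaf 0x0) (.node 1648 (.leaf 0x0) (.leaf 0x0))))) (.node 1654 (.node 1651 (.node 1650 (.leaf 0x0) (.leaf 0x0)) (.node 1652 (.leaf 0x0) (.node 1653 (.leaf 0x0) (.leaf 0x0)))) (.node 1656 (.node 1655 (.leaf 0x0) (.leaf 0x0)) (.node 1657 (.leaf 0x0) (.node 1658 (.leaf 0x0) (.leaf 0x0))))))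

def valStore_90 : Store := (.node 1668 (.node 1663 (.node 1661 (.node 1660 (.leaf 0x0) (.leaf 0x0)) (.node 1662 (.leaf 0x0) (.leaf 0x0))) (.node 1665 (.node 1664 (.leaf 0x0) (.leaf 0x0)) (.node 1666 (.leaf 0x0) (.node 1667 (.leaf 0x0) (.leaf 0x0))))) (.node 1673 (.node 1670 (.node 1669 (.leaf 0x0) (.leaf 0x0)) (.node 1671 (.leaf 0x0) (.node 1672 (.leaf 0x0) (.leaf 0x0)))) (.node 1675 (.node 1674 (.leaf 0x0) (.leaf 0x0)) (.node 1676 (.leaf 0x0) (.node 1677 (.leaf 0x0) (.leaf 0x0))))))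

def valStore_91 : Store := (.node 1688 (.node 1683 (.node 1680 (.node 1679 (.leaf 0x0) (.leaf 0x0)) (.node 1681 (.leaf 0x0) (.node 1682 (.leaf 0x0) (.leaf 0x0)))) (.node 1685 (.node 1684 (.leaf 0x0) (.leaf 0x0)) (.node 1686 (.leaf 0x0) (.node 1687 (.leaf 0x0) (.leaf 0x0))))) (.node 1693 (.node 1690 (.node 1689 (.leaf 0x0) (.leaf 0x0)) (.node 1691 (.leaf 0x0) (.node 1692 (.leaf 0x0) (.leaf 0x0)))) (.node 1695 (.node 1694 (.leaf 0x0) (.leaf 0x0)) (.node 1696 (.leaf 0x0) (.node 1697 (.leaf 0x0) (.leaf 0x0))))))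

def valStore_92 : Store := (.node 1708 (.node 1703 (.node 1700 (.node 1699 (.leaf 0x0) (.leaf 0x0)) (.node 1701 (.leaf 0x0) (.node 1702 (.leaf 0x0) (.leaf 0x0)))) (.node 1705 (.node 1704 (.leaf 0x0) (.leaf 0x0)) (.node 1706 (.leaf 0x0) (.node 1707 (.leaf 0x0) (.leaf 0x0))))) (.node 1713 (.node 1710 (.node 1709 (.leaf 0x0) (.leaf 0x0)) (.node 1711 (.leaf 0x0) (.node 1712 (.leaf 0x0) (.leaf 0x0)))) (.node 1715 (.node 1714 (.leaf 0x0) (.leaf 0x0)) (.node 1716 (.leaf 0x0) (.node 1717 (.leaf 0x0) (.leaf 0x0))))))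

def valStore_93 : Store := (.node 1728 (.node 1723 (.node 1720 (.node 1719 (.leaf 0x0) (.leaf 0x0)) (.node 1721 (.leaf 0x0) (.node 1722 (.leaf 0x0) (.leaf 0x0)))) (.node 1725 (.node 1724 (.leaf 0x0) (.leaf 0x0)) (.node 1726 (.leaf 0x0) (.node 1727 (.leaf 0x0) (.leaf 0x0))))) (.node 1733 (.node 1730 (.node 1729 (.leaf 0x0) (.leaf 0x0)) (.node 1731 (.leaf 0x0) (.node 1732 (.leaf 0x0) (.leaf 0x0)))) (.node 1735 (.node 1734 (.leaf 0x0) (.leaf 0x0)) (.node 1736 (.leaf 0x0) (.node 1737 (.leaf 0x0) (.leaf 0x0))))))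

def valStore_94 : Store := (.node 1747 (.node 1742 (.node 1740 (.node 1739 (.leaf 0x0) (.leaf 0x0)) (.node 1741 (.leaf 0x0) (.leaf 0x0))) (.node 1744 (.node 1743 (.leaf 0x0) (.leaf 0x0)) (.node 1745 (.leaf 0x0) (.node 1746 (.leaf 0x0) (.leaf 0x0))))) (.node 1752 (.node 1749 (.node 1748 (.leaf 0x0) (.leaf 0x0)) (.node 1750 (.leaf 0x0) (.node 1751 (.leaf 0x0) (.leaf 0x0)))) (.node 1754 (.node 1753 (.leaf 0x0) (.leaf 0x0)) (.node 1755 (.leaf 0x0) (.node 1756 (.leaf 0x0) (.leaf 0x0))))))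

def valStore_95 : Store := (.node 1767 (.node 1762 (.node 1759 (.node 1758 (.leaf 0x0) (.leaf 0x0)) (.node 1760 (.leaf 0x0) (.node 1761 (.leaf 0x0) (.leaf 0x0)))) (.node 1764 (.node 1763 (.leaf 0x0) (.leaf 0x0)) (.node 1765 (.leaf 0x0) (.node 1766 (.leaf 0x0) (.leaf 0x0))))) (.node 1772 (.node 1769 (.node 1768 (.leaf 0x0) (.leaf 0x0)) (.node 1770 (.leaf 0x0) (.node 1771 (.leaf 0x0) (.leaf 0x0)))) (.node 1774 (.node 1773 (.leaf 0x0) (.leaf 0x0)) (.node 1775 (.leaf 0x0) (.node 1776 (.leaf 0x0) (.leaf 0x0))))))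

def valStore_96 : Store := (.node 1787 (.node 1782 (.node 1779 (.node 1778 (.leaf 0x0) (.leaf 0x0)) (.node 1780 (.leaf 0x0) (.node 1781 (.leaf 0x0) (.leaf 0x0)))) (.node 1784 (.node 1783 (.leaf 0x0) (.leaf 0x0)) (.node 1785 (.leaf 0x0) (.node 1786 (.leaf 0x0) (.leaf 0x0))))) (.node 1792 (.node 1789 (.node 1788 (.leaf 0x0) (.leaf 0x0)) (.node 1790 (.leaf 0x0) (.node 1791 (.leaf 0x0) (.leaf 0x0)))) (.node 1794 (.node 1793 (.leaf 0x0) (.leaf 0x0)) (.node 1795 (.leaf 0x0) (.node 1796 (.leaf 0x0) (.leaf 0x0))))))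

def valStore_97 : Store := (.node 1807 (.node 1802 (.node 1799 (.node 1798 (.leaf 0x0) (.leaf 0x0)) (.node 1800 (.leaf 0x0) (.node 1801 (.leaf 0x0) (.leaf 0x0)))) (.node 1804 (.node 1803 (.leaf 0x0) (.leaf 0x0)) (.node 1805 (.leaf 0x0) (.node 1806 (.leaf 0x0) (.leaf 0x0))))) (.node 1812 (.node 1809 (.node 1808 (.leaf 0x0) (.leaf 0x0)) (.node 1810 (.leaf 0x0) (.node 1811 (.leaf 0x0) (.leaf 0x0)))) (.node 1814 (.node 1813 (.leaf 0x0) (.leaf 0x0)) (.node 1815 (.leaf 0x0) (.node 1816 (.leaf 0x0) (.leaf 0x0))))))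

def valStore_98 : Store := (.node 1826 (.node 1821 (.node 1819 (.node 1818 (.leaf 0x0) (.leaf 0x0)) (.node 1820 (.leaf 0x0) (.leaf 0x0))) (.node 1823 (.node 1822 (.leaf 0x0) (.leaf 0x0)) (.node 1824 (.leaf 0x0) (.node 1825 (.leaf 0x0) (.leaf 0x0))))) (.node 1831 (.node 1828 (.node 1827 (.leaf 0x0) (.leaf 0x0)) (.node 1829 (.leaf 0x0) (.node 1830 (.leaf 0x0) (.leaf 0x0)))) (.node 1833 (.node 1832 (.leaf 0x0) (.leaf 0x0)) (.node 1834 (.leaf 0x0) (.node 1835 (.leaf 0x0) (.leaf 0x0))))))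

def valStore_99 : Store := (.node 1846 (.node 1841 (.node 1838 (.node 1837 (.leaf 0x0) (.leaf 0x0)) (.node 1839 (.leaf 0x0) (.node 1840 (.leaf 0x0) (.leaf 0x0)))) (.node 1843 (.node 1842 (.leaf 0x0) (.leaf 0x0)) (.node 1844 (.leaf 0x0) (.node 1845 (.leaf 0x0) (.leaf 0x0))))) (.node 1851 (.node 1848 (.node 1847 (.leaf 0x0) (.leaf 0x0)) (.node 1849 (.leaf 0x0) (.node 1850 (.leaf 0x0) (.leaf 0x0)))) (.node 1853 (.node 1852 (.leaf 0x0) (.leaf 0x0)) (.node 1854 (.leaf 0x0) (.node 1855 (.leaf 0x0) (.leaf 0x0))))))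

def valStore_100 : Store := (.node 1866 (.node 1861 (.node 1858 (.node 1857 (.leaf 0x0) (.leaf 0x0)) (.node 1859 (.leaf 0x0) (.node 1860 (.leaf 0x0) (.leaf 0x0)))) (.node 1863 (.node 1862 (.leaf 0x0) (.leaf 0x0)) (.node 1864 (.leaf 0x0) (.node 1865 (.leaf 0x0) (.leaf 0x0))))) (.node 1871 (.node 1868 (.node 1867 (.leaf 0x0) (.leaf 0x0)) (.node 1869 (.leaf 0x0) (.node 1870 (.leaf 0x0) (.leaf 0x0)))) (.node 1873 (.node 1872 (.leaf 0x0) (.leaf 0x0)) (.node 1874 (.leaf 0x0) (.node 1875 (.leaf 0x0) (.leaf 0x0))))))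

def valStore_101 : Store := (.node 1886 (.node 1881 (.node 1878 (.node 1877 (.leaf 0x0) (.leaf 0x0)) (.node 1879 (.leaf 0x0) (.node 1880 (.leaf 0x0) (.leaf 0x0)))) (.node 1883 (.node 1882 (.leaf 0x0) (.leaf 0x0)) (.node 1884 (.leaf 0x0) (.node 1885 (.leaf 0x0) (.leaf 0x0))))) (.node 1891 (.node 1888 (.node 1887 (.leaf 0x0) (.leaf 0x0)) (.node 1889 (.leaf 0x0) (.node 1890 (.leaf 0x0) (.leaf 0x0)))) (.node 1893 (.node 1892 (.leaf 0x0) (.leaf 0x0)) (.node 1894 (.leaf 0x0) (.node 1895 (.leaf 0x0) (.leaf 0x0))))))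

def valStore_102 : Store := (.node 1738 (.node 1659 (.node 1619 (.node 1599 valStore_86 valStore_87) (.node 1639 valStore_88 valStore_89)) (.node 1698 (.node 1678 valStore_90 valStore_91) (.node 1718 valStore_92 valStore_93))) (.node 1817 (.node 1777 (.node 1757 valStore_94 valStore_95) (.node 1797 valStore_96 valStore_97)) (.node 1856 (.node 1836 valStore_98 valStore_99) (.node 1876 valStore_100 valStore_101))))

def valStore_103 : Store := (.node 1905 (.node 1900 (.node 1898 (.node 1897 (.leaf 0x0) (.leaf 0x0)) (.node 1899 (.leaf 0x0) (.leaf 0x0))) (.node 1902 (.node 1901 (.leaf 0x0) (.leaf 0x0)) (.node 1903 (.leaf 0x0) (.node 1904 (.leaf 0x0) (.leaf 0x0))))) (.node 1910 (.node 1907 (.node 1906 (.leaf 0x0) (.leaf 0x0)) (.node 1908 (.leaf 0x0) (.node 1909 (.leaf 0x0) (.leaf 0x0)))) (.node 1912 (.node 1911 (.leaf 0x0) (.leaf 0x0)) (.node 1913 (.leaf 0x0) (.node 1914 (.leaf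 0x0) (.leaf 0x0))))))

def valStore_104 : Store := (.node 1925 (.node 1920 (.node 1917 (.node 1916 (.leaf 0x0) (.leaf 0x0)) (.node 1918 (.leaf 0x0) (.node 1919 (.leaf 0x0) (.leaf 0x0)))) (.node 1922 (.node 1921 (.leaf 0x0) (.leaf 0x0)) (.node 1923 (.leaf 0x0) (.node 1924 (.leaf 0x0) (.leaf 0x0))))) (.node 1930 (.node 1927 (.node 1926 (.leaf 0x0) (.leaf 0x0)) (.node 1928 (.leaf 0x0) (.node 1929 (.leaf 0x0) (.leaf 0x0)))) (.node 1932 (.node 1931 (.leaf 0x0) (.leaf 0x0)) (.node 1933 (.leaf 0x0) (.node 1934 (.leaf 0x0) (.leaf 0x0))))))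

def valStore_105 : Store := (.node 1945 (.node 1940 (.node 1937 (.node 1936 (.leaf 0x0) (.leaf 0x0)) (.node 1938 (.leaf 0x0) (.node 1939 (.leaf 0x0) (.leaf 0x0)))) (.node 1942 (.node 1941 (.leaf 0x0) (.leaf 0x0)) (.node 1943 (.leaf 0x0) (.node 1944 (.leaf 0x0) (.leaf 0x0))))) (.node 1950 (.node 1947 (.node 1946 (.leaf 0x0) (.leaf 0x0)) (.node 1948 (.leaf 0x0) (.node 1949 (.leaf 0x0) (.leaf 0x0)))) (.node 1952 (.node 1951 (.leaf 0x0) (.leaf 0x0)) (.node 1953 (.leaf 0x0) (.node 1954 (.leaf 0x0) (.leaf 0x0))))))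

def valStore_106 : Store := (.node 1965 (.node 1960 (.node 1957 (.node 1956 (.leaf 0x0) (.leaf 0x0)) (.node 1958 (.leaf 0x0) (.node 1959 (.leaf 0x0) (.leaf 0x0)))) (.node 1962 (.node 1961 (.leaf 0x0) (.leaf 0x0)) (.node 1963 (.leaf 0x0) (.node 1964 (.leaf 0x0) (.leaf 0x0))))) (.node 1970 (.node 1967 (.node 1966 (.leaf 0x0) (.leaf 0x0)) (.node 1968 (.leaf 0x0) (.node 1969 (.leaf 0x0) (.leaf 0x0)))) (.node 1972 (.node 1971 (.leaf 0x0) (.leaf 0x0)) (.node 1973 (.leaf 0x0) (.node 1974 (.leaf 0x0) (.leaf 0x0))))))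

def valStore_107 : Store := (.node 1984 (.node 1979 (.node 1977 (.node 1976 (.leaf 0x0) (.leaf 0x0)) (.node 1978 (.leaf 0x0) (.leaf 0x0))) (.node 1981 (.node 1980 (.leaf 0x0) (.leaf 0x0)) (.node 1982 (.leaf 0x0) (.node 1983 (.leaf 0x0) (.leaf 0x0))))) (.node 1989 (.node 1986 (.node 1985 (.leaf 0x0) (.leaf 0x0)) (.node 1987 (.leaf 0x0) (.node 1988 (.leaf 0x0) (.leaf 0x0)))) (.node 1991 (.node 1990 (.leaf 0x0) (.leaf 0x0)) (.node 1992 (.leaf 0x0) (.node 1993 (.leaf 0x0) (.leaf 0x0))))))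

def valStore_108 : Store := (.node 2004 (.node 1999 (.node 1996 (.node 1995 (.leaf 0x0) (.leaf 0x0)) (.node 1997 (.leaf 0x0) (.node 1998 (.leaf 0x0) (.leaf 0x0)))) (.node 2001 (.node 2000 (.leaf 0x0) (.leaf 0x0)) (.node 2002 (.leaf 0x0) (.node 2003 (.leaf 0x0) (.leaf 0x0))))) (.node 2009 (.node 2006 (.node 2005 (.leaf 0x0) (.leaf 0x0)) (.node 2007 (.leaf 0x0) (.node 2008 (.leaf 0x0) (.leaf 0x0)))) (.node 2011 (.node 2010 (.leaf 0x0) (.leaf 0x0)) (.node 2012 (.leaf 0x0) (.node 2013 (.leaf 0x0) (.leaf 0x0))))))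

def valStore_109 : Store := (.node 2024 (.node 2019 (.node 2016 (.node 2015 (.leaf 0x0) (.leaf 0x0)) (.node 2017 (.leaf 0x0) (.node 2018 (.leaf 0x0) (.leaf 0x0)))) (.node 2021 (.node 2020 (.leaf 0x0) (.leaf 0x0)) (.node 2022 (.leaf 0x0) (.node 2023 (.leaf 0x0) (.leaf 0x0))))) (.node 2029 (.node 2026 (.node 2025 (.leaf 0x0) (.leaf 0x0)) (.node 2027 (.leaf 0x0) (.node 2028 (.leaf 0x0) (.leaf 0x0)))) (.node 2031 (.node 2030 (.leaf 0x0) (.leaf 0x0)) (.node 2032 (.leaf 0x0) (.node 2033 (.leaf 0x0) (.leaf 0x0))))))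

def valStore_110 : Store := (.node 2044 (.node 2039 (.node 2036 (.node 2035 (.leaf 0x0) (.leaf 0x0)) (.node 2037 (.leaf 0x0) (.node 2038 (.leaf 0x0) (.leaf 0x0)))) (.node 2041 (.node 2040 (.leaf 0x0) (.leaf 0x0)) (.node 2042 (.leaf 0x0) (.node 2043 (.leaf 0x0) (.leaf 0x0))))) (.node 2049 (.node 2046 (.node 2045 (.leaf 0x0) (.leaf 0x0)) (.node 2047 (.leaf 0x0) (.node 2048 (.leaf 0x0) (.leaf 0x0)))) (.node 2051 (.node 2050 (.leaf 0x0) (.leaf 0x0)) (.node 2052 (.leaf 0x0) (.node 2053 (.leaf 0x0) (.leaf 0x0))))))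

def valStore_111 : Store := (.node 2063 (.node 2058 (.node 2056 (.node 2055 (.leaf 0x0) (.leaf 0x0)) (.node 2057 (.leaf 0x0) (.leaf 0x0))) (.node 2060 (.node 2059 (.leaf 0x0) (.leaf 0x0)) (.node 2061 (.leaf 0x0) (.node 2062 (.leaf 0x0) (.leaf 0x0))))) (.node 2068 (.node 2065 (.node 2064 (.leaf 0x0) (.leaf 0x0)) (.node 2066 (.leaf 0x0) (.node 2067 (.leaf 0x0) (.leaf 0x0)))) (.node 2070 (.node 2069 (.leaf 0x0) (.leaf 0x0)) (.node 2071 (.leaf 0x0) (.node 2072 (.leaf 0x0) (.leaf 0x0))))))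

def valStore_112 : Store := (.node 2083 (.node 2078 (.node 2075 (.node 2074 (.leaf 0x0) (.leaf 0x0)) (.node 2076 (.leaf 0x0) (.node 2077 (.leaf 0x0) (.leaf 0x0)))) (.node 2080 (.node 2079 (.leaf 0x0) (.leaf 0x0)) (.node 2081 (.leaf 0x0) (.node 2082 (.leaf 0x0) (.leaf 0x0))))) (.node 2088 (.node 2085 (.node 2084 (.leaf 0x0) (.leaf 0x0)) (.node 2086 (.leaf 0x0) (.node 2087 (.leaf 0x0) (.leaf 0x0)))) (.node 2090 (.node 2089 (.leaf 0x0) (.leaf 0x0)) (.node 2091 (.leaf 0x0) (.node 2092 (.leaf 0x0) (.leaf 0x0))))))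

def valStore_113 : Store := (.node 2103 (.node 2098 (.node 2095 (.node 2094 (.leaf 0x0) (.leaf 0x0)) (.node 2096 (.leaf 0x0) (.node 2097 (.leaf 0x0) (.leaf 0x0)))) (.node 2100 (.node 2099 (.leaf 0x0) (.leaf 0x0)) (.node 2101 (.leaf 0x0) (.node 2102 (.leaf 0x0) (.leaf 0x0))))) (.node 2108 (.node 2105 (.node 2104 (.leaf 0x0) (.leaf 0x0)) (.node 2106 (.leaf 0x0) (.node 2107 (.leaf 0x0) (.leaf 0x0)))) (.node 2110 (.node 2109 (.leaf 0x0) (.leaf 0x0)) (.node 2111 (.leaf 0x0) (.node 2112 (.leaf 0x0) (.leaf 0x0))))))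

def valStore_114 : Store := (.node 2123 (.node 2118 (.node 2115 (.node 2114 (.leaf 0x0) (.leaf 0x0)) (.node 2116 (.leaf 0x0) (.node 2117 (.leaf 0x0) (.leaf 0x0)))) (.node 2120 (.node 2119 (.leaf 0x0) (.leaf 0x0)) (.node 2121 (.leaf 0x0) (.node 2122 (.leaf 0x0) (.leaf 0x0))))) (.node 2128 (.node 2125 (.node 2124 (.leaf 0x0) (.leaf 0x0)) (.node 2126 (.leaf 0x0) (.node 2127 (.leaf 0x0) (.leaf 0x0)))) (.node 2130 (.node 2129 (.leaf 0x0) (.leaf 0x0)) (.node 2131 (.leaf 0x0) (.node 2132 (.leaf 0x0) (.leaf 0x0))))))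

def valStore_115 : Store := (.node 2142 (.node 2137 (.node 2135 (.node 2134 (.leaf 0x0) (.leaf 0x0)) (.node 2136 (.leaf 0x0) (.leaf 0x0))) (.node 2139 (.node 2138 (.leaf 0x0) (.leaf 0x0)) (.node 2140 (.leaf 0x0) (.node 2141 (.leaf 0x0) (.leaf 0x0))))) (.node 2147 (.node 2144 (.node 2143 (.leaf 0x0) (.leaf 0x0)) (.node 2145 (.leaf 0x0) (.node 2146 (.leaf 0x0) (.leaf 0x0)))) (.node 2149 (.node 2148 (.leaf 0x0) (.leaf 0x0)) (.node 2150 (.leaf 0x0) (.node 2151 (.leaf 0x0) (.leaf 0x0))))))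

def valStore_116 : Store := (.node 2162 (.node 2157 (.node 2154 (.node 2153 (.leaf 0x0) (.leaf 0x0)) (.node 2155 (.leaf 0x0) (.node 2156 (.leaf 0x0) (.leaf 0x0)))) (.node 2159 (.node 2158 (.leaf 0x0) (.leaf 0x0)) (.node 2160 (.leaf 0x0) (.node 2161 (.leaf 0x0) (.leaf 0x0))))) (.node 2167 (.node 2164 (.node 2163 (.leaf 0x0) (.leaf 0x0)) (.node 2165 (.leaf 0x0) (.node 2166 (.leaf 0x0) (.leaf 0x0)))) (.node 2169 (.node 2168 (.leaf 0x0) (.leaf 0x0)) (.node 2170 (.leaf 0x0) (.node 2171 (.leaf 0x0) (.leaf 0x0))))))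

def valStore_117 : Store := (.node 2182 (.node 2177 (.node 2174 (.node 2173 (.leaf 0x0) (.leaf 0x0)) (.node 2175 (.leaf 0x0) (.node 2176 (.leaf 0x0) (.leaf 0x0)))) (.node 2179 (.node 2178 (.leaf 0x0) (.leaf 0x0)) (.node 2180 (.leaf 0x0) (.node 2181 (.leaf 0x0) (.leaf 0x0))))) (.node 2187 (.node 2184 (.node 2183 (.leaf 0x0) (.leaf 0x0)) (.node 2185 (.leaf 0x0) (.node 2186 (.leaf 0x0) (.leaf 0x0)))) (.node 2189 (.node 2188 (.leaf 0x0) (.leaf 0x0)) (.node 2190 (.leaf 0x0) (.node 2191 (.leaf 0x0) (.leaf 0x0))))))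

def valStore_118 : Store := (.node 2202 (.node 2197 (.node 2194 (.node 2193 (.leaf 0x0) (.leaf 0x0)) (.node 2195 (.leaf 0x0) (.node 2196 (.leaf 0x0) (.leaf 0x0)))) (.node 2199 (.node 2198 (.leaf 0x0) (.leaf 0x0)) (.node 2200 (.leaf 0x0) (.node 2201 (.leaf 0x0) (.leaf 0x0))))) (.node 2207 (.node 2204 (.node 2203 (.leaf 0x0) (.leaf 0x0)) (.node 2205 (.leaf 0x0) (.node 2206 (.leaf 0x0) (.leaf 0x0)))) (.node 2209 (.node 2208 (.leaf 0x0) (.leaf 0x0)) (.node 2210 (.leaf 0x0) (.node 2211 (.leaf 0x0) (.leaf 0x0))))))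

def valStore_119 : Store := (.node 2054 (.node 1975 (.node 1935 (.node 1915 valStore_103 valStore_104) (.node 1955 valStore_105 valStore_106)) (.node 2014 (.node 1994 valStore_107 valStore_108) (.node 2034 valStore_109 valStore_110))) (.node 2133 (.node 2093 (.node 2073 valStore_111 valStore_112) (.node 2113 valStore_113 valStore_114)) (.node 2172 (.node 2152 valStore_115 valStore_116) (.node 2192 valStore_117 valStore_118))))

def valStore_120 : Store := (.node 2221 (.node 2216 (.node 2214 (.node 2213 (.leaf 0x0) (.leaf 0x0)) (.node 2215 (.leaf 0x0) (.leaf 0x0))) (.node 2218 (.node 2217 (.leaf 0x0) (.leaf 0x0)) (.node 2219 (.leaf 0x0) (.node 2220 (.leaf 0x0) (.leaf 0x0))))) (.node 2226 (.node 2223 (.node 2222 (.leaf 0x0) (.leaf 0x0)) (.node 2224 (.leaf 0x0) (.node 2225 (.leaf 0x0) (.leaf 0x0)))) (.node 2228 (.node 2227 (.leaf 0x0) (.leaf 0x0)) (.node 2229 (.leaf 0x0) (.node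 2230 (.leaf 0x0) (.leaf 0x0))))))

def valStore_121 : Store := (.node 2241 (.node 2236 (.node 2233 (.node 2232 (.leaf 0x0) (.leaf 0x0)) (.node 2234 (.leaf 0x0) (.node 2235 (.leaf 0x0) (.leaf 0x0)))) (.node 2238 (.node 2237 (.leaf 0x0) (.leaf 0x0)) (.node 2239 (.leaf 0x0) (.node 2240 (.leaf 0x0) (.leaf 0x0))))) (.node 2246 (.node 2243 (.node 2242 (.leaf 0x0) (.leaf 0x0)) (.node 2244 (.leaf 0x0) (.node 2245 (.leaf 0x0) (.leaf 0x0)))) (.node 2248 (.node 2247 (.leaf 0x0) (.leaf 0x0)) (.node 2249 (.leaf 0x0) (.node 2250 (.leaf 0x0) (.leaf 0x0))))))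

def valStore_122 : Store := (.node 2261 (.node 2256 (.node 2253 (.node 2252 (.leaf 0x0) (.leaf 0x0)) (.node 2254 (.leaf 0x0) (.node 2255 (.leaf 0x0) (.leaf 0x0)))) (.node 2258 (.node 2257 (.leaf 0x0) (.leaf 0x0)) (.node 2259 (.leaf 0x0) (.node 2260 (.leaf 0x0) (.leaf 0x0))))) (.node 2266 (.node 2263 (.node 2262 (.leaf 0x0) (.leaf 0x0)) (.node 2264 (.leaf 0x0) (.node 2265 (.leaf 0x0) (.leaf 0x0)))) (.node 2268 (.node 2267 (.leaf 0x0) (.leaf 0x0)) (.node 2269 (.leaf 0x0) (.node 2270 (.leaf 0x0) (.leaf 0x0))))))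

def valStore_123 : Store := (.node 2281 (.node 2276 (.node 2273 (.node 2272 (.leaf 0x0) (.leaf 0x0)) (.node 2274 (.leaf 0x0) (.node 2275 (.leaf 0x0) (.leaf 0x0)))) (.node 2278 (.node 2277 (.leaf 0x0) (.leaf 0x0)) (.node 2279 (.leaf 0x0) (.node 2280 (.leaf 0x0) (.leaf 0x0))))) (.node 2286 (.node 2283 (.node 2282 (.leaf 0x0) (.leaf 0x0)) (.node 2284 (.leaf 0x0) (.node 2285 (.leaf 0x0) (.leaf 0x0)))) (.node 2288 (.node 2287 (.leaf 0x0) (.leaf 0x0)) (.node 2289 (.leaf 0x0) (.node 2290 (.leaf 0x0) (.leaf 0x0))))))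

def valStore_124 : Store := (.node 2300 (.node 2295 (.node 2293 (.node 2292 (.leaf 0x0) (.leaf 0x0)) (.node 2294 (.leaf 0x0) (.leaf 0x0))) (.node 2297 (.node 2296 (.leaf 0x0) (.leaf 0x0)) (.node 2298 (.leaf 0x0) (.node 2299 (.leaf 0x0) (.leaf 0x0))))) (.node 2305 (.node 2302 (.node 2301 (.leaf 0x0) (.leaf 0x0)) (.node 2303 (.leaf 0x0) (.node 2304 (.leaf 0x0) (.leaf 0x0)))) (.node 2307 (.node 2306 (.leaf 0x0) (.leaf 0x0)) (.node 2308 (.leaf 0x0) (.node 2309 (.leaf 0x0) (.leaf 0x0))))))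

def valStore_125 : Store := (.node 2320 (.node 2315 (.node 2312 (.node 2311 (.leaf 0x0) (.leaf 0x0)) (.node 2313 (.leaf 0x0) (.node 2314 (.leaf 0x0) (.leaf 0x0)))) (.node 2317 (.node 2316 (.leaf 0x0) (.leaf 0x0)) (.node 2318 (.leaf 0x0) (.node 2319 (.leaf 0x0) (.leaf 0x0))))) (.node 2325 (.node 2322 (.node 2321 (.leaf 0x0) (.leaf 0x0)) (.node 2323 (.leaf 0x0) (.node 2324 (.leaf 0x0) (.leaf 0x0)))) (.node 2327 (.node 2326 (.leaf 0x0) (.leaf 0x0)) (.node 2328 (.leaf 0x0) (.node 2329 (.leaf 0x0) (.leaf 0x0))))))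

def valStore_126 : Store := (.node 2340 (.node 2335 (.node 2332 (.node 2331 (.leaf 0x0) (.leaf 0x0)) (.node 2333 (.leaf 0x0) (.node 2334 (.leaf 0x0) (.leaf 0x0)))) (.node 2337 (.node 2336 (.leaf 0x0) (.leaf 0x0)) (.node 2338 (.leaf 0x0) (.node 2339 (.leaf 0x0) (.leaf 0x0))))) (.node 2345 (.node 2342 (.node 2341 (.leaf 0x0) (.leaf 0x0)) (.node 2343 (.leaf 0x0) (.node 2344 (.leaf 0x0) (.leaf 0x0)))) (.node 2347 (.node 2346 (.leaf 0x0) (.leaf 0x0)) (.node 2348 (.leaf 0x0) (.node 2349 (.leaf 0x0) (.leaf 0x0))))))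

def valStore_127 : Store := (.node 2360 (.node 2355 (.node 2352 (.node 2351 (.leaf 0x0) (.leaf 0x0)) (.node 2353 (.leaf 0x0) (.node 2354 (.leaf 0x0) (.leaf 0x0)))) (.node 2357 (.node 2356 (.leaf 0x0) (.leaf 0x0)) (.node 2358 (.leaf 0x0) (.node 2359 (.leaf 0x0) (.leaf 0x0))))) (.node 2365 (.node 2362 (.node 2361 (.leaf 0x0) (.leaf 0x0)) (.node 2363 (.leaf 0x0) (.node 2364 (.leaf 0x0) (.leaf 0x0)))) (.node 2367 (.node 2366 (.leaf 0x0) (.leaf 0x0)) (.node 2368 (.leaf 0x0) (.node 2369 (.leaf 0x0) (.leaf 0x0))))))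

def valStore_128 : Store := (.node 2379 (.node 2374 (.node 2372 (.node 2371 (.leaf 0x0) (.leaf 0x0)) (.node 2373 (.leaf 0x0) (.leaf 0x0))) (.node 2376 (.node 2375 (.leaf 0x0) (.leaf 0x0)) (.node 2377 (.leaf 0x0) (.node 2378 (.leaf 0x0) (.leaf 0x0))))) (.node 2384 (.node 2381 (.node 2380 (.leaf 0x0) (.leaf 0x0)) (.node 2382 (.leaf 0x0) (.node 2383 (.leaf 0x0) (.leaf 0x0)))) (.node 2386 (.node 2385 (.leaf 0x0) (.leaf 0x0)) (.node 2387 (.leaf 0x0) (.node 2388 (.leaf 0x0) (.leaf 0x0))))))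

def valStore_129 : Store := (.node 2399 (.node 2394 (.node 2391 (.node 2390 (.leaf 0x0) (.leaf 0x0)) (.node 2392 (.leaf 0x0) (.node 2393 (.leaf 0x0) (.leaf 0x0)))) (.node 2396 (.node 2395 (.leaf 0x0) (.leaf 0x0)) (.node 2397 (.leaf 0x0) (.node 2398 (.leaf 0x0) (.leaf 0x0))))) (.node 2404 (.node 2401 (.node 2400 (.leaf 0x0) (.leaf 0x0)) (.node 2402 (.leaf 0x0) (.node 2403 (.leaf 0x0) (.leaf 0x0)))) (.node 2406 (.node 2405 (.leaf 0x0) (.leaf 0x0)) (.node 2407 (.leaf 0x0) (.node 2408 (.leaf 0x0) (.leaf 0x0))))))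

def valStore_130 : Store := (.node 2419 (.node 2414 (.node 2411 (.node 2410 (.leaf 0x0) (.leaf 0x0)) (.node 2412 (.leaf 0x0) (.node 2413 (.leaf 0x0) (.leaf 0x0)))) (.node 2416 (.node 2415 (.leaf 0x0) (.leaf 0x0)) (.node 2417 (.leaf 0x0) (.node 2418 (.leaf 0x0) (.leaf 0x0))))) (.node 2424 (.node 2421 (.node 2420 (.leaf 0x0) (.leaf 0x0)) (.node 2422 (.leaf 0x0) (.node 2423 (.leaf 0x0) (.leaf 0x0)))) (.node 2426 (.node 2425 (.leaf 0x0) (.leaf 0x0)) (.node 2427 (.leaf 0x0) (.node 2428 (.leaf 0x0) (.leaf 0x0))))))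

def valStore_131 : Store := (.node 2439 (.node 2434 (.node 2431 (.node 2430 (.leaf 0x0) (.leaf 0x0)) (.node 2432 (.leaf 0x0) (.node 2433 (.leaf 0x0) (.leaf 0x0)))) (.node 2436 (.node 2435 (.leaf 0x0) (.leaf 0x0)) (.node 2437 (.leaf 0x0) (.node 2438 (.leaf 0x0) (.leaf 0x0))))) (.node 2444 (.node 2441 (.node 2440 (.leaf 0x0) (.leaf 0x0)) (.node 2442 (.leaf 0x0) (.node 2443 (.leaf 0x0) (.leaf 0x0)))) (.node 2446 (.node 2445 (.leaf 0x0) (.leaf 0x0)) (.node 2447 (.leaf 0x0) (.node 2448 (.leaf 0x0) (.leaf 0x0))))))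

def valStore_132 : Store := (.node 2459 (.node 2454 (.node 2451 (.node 2450 (.leaf 0x0) (.leaf 0x0)) (.node 2452 (.leaf 0x0) (.node 2453 (.leaf 0x0) (.leaf 0x0)))) (.node 2456 (.node 2455 (.leaf 0x0) (.leaf 0x0)) (.node 2457 (.leaf 0x0) (.node 2458 (.leaf 0x0) (.leaf 0x0))))) (.node 2464 (.node 2461 (.node 2460 (.leaf 0x0) (.leaf 0x0)) (.node 2462 (.leaf 0x0) (.node 2463 (.leaf 0x0) (.leaf 0x0)))) (.node 2466 (.node 2465 (.leaf 0x0) (.leaf 0x0)) (.node 2467 (.leaf 0x0) (.node 2468 (.leaf 0x0) (.leaf 0x0))))))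

def valStore_133 : Store := (.node 2479 (.node 2474 (.node 2471 (.node 2470 (.leaf 0x0) (.leaf 0x0)) (.node 2472 (.leaf 0x0) (.node 2473 (.leaf 0x0) (.leaf 0x0)))) (.node 2476 (.node 2475 (.leaf 0x0) (.leaf 0x0)) (.node 2477 (.leaf 0x0) (.node 2478 (.leaf 0x0) (.leaf 0x0))))) (.node 2484 (.node 2481 (.node 2480 (.leaf 0x0) (.leaf 0x0)) (.node 2482 (.leaf 0x0) (.node 2483 (.leaf 0x0) (.leaf 0x0)))) (.node 2486 (.node 2485 (.leaf 0x0) (.leaf 0x0)) (.node 2487 (.leaf 0x0) (.node 2488 (.leaf 0x0) (.leaf 0x0))))))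

def valStore_134 : Store := (.node 2499 (.node 2494 (.node 2491 (.node 2490 (.leaf 0x0) (.leaf 0x0)) (.node 2492 (.leaf 0x0) (.node 2493 (.leaf 0x0) (.leaf 0x0)))) (.node 2496 (.node 2495 (.leaf 0x0) (.leaf 0x0)) (.node 2497 (.leaf 0x0) (.node 2498 (.leaf 0x0) (.leaf 0x0))))) (.node 2504 (.node 2501 (.node 2500 (.leaf 0x0) (.leaf 0x0)) (.node 2502 (.leaf 0x0) (.node 2503 (.leaf 0x0) (.leaf 0x0)))) (.node 2506 (.node 2505 (.leaf 0x0) (.leaf 0x0)) (.node 2507 (.leaf 0x0) (.node 2508 (.leaf 0x0) (.leaf 0x0))))))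

def valStore_135 : Store := (.node 2519 (.node 2514 (.node 2511 (.node 2510 (.leaf 0x0) (.leaf 0x0)) (.node 2512 (.leaf 0x0) (.node 2513 (.leaf 0x0) (.leaf 0x0)))) (.node 2516 (.node 2515 (.leaf 0x0) (.leaf 0x0)) (.node 2517 (.leaf 0x0) (.node 2518 (.leaf 0x0) (.leaf 0x0))))) (.node 2524 (.node 2521 (.node 2520 (.leaf 0x0) (.leaf 0x0)) (.node 2522 (.leaf 0x0) (.node 2523 (.leaf 0x0) (.leaf 0x0)))) (.node 2526 (.node 2525 (.leaf 0x0) (.leaf 0x0)) (.node 2527 (.leaf 0x0) (.node 2528 (.leaf 0x0) (.leaf 0x100275000019d4000040000275000019d40000001002750000100275000019d4000040000275004009d400000019d4000040000275000010027500400002750000100275004000027500001002750000100275000019d400000000000000000000000000000000000000000000000000000000000000000000000000000000000000000000000000000000000000000000000000000000000000000000000000000000000000000000000000000000000000000000000000000000000000000000000000000000000000000000000000000000000000000000000000000000000000000000000000000000000000000000000000000000000000000000000000000000000000000000000000000000000000000000000000000000000000000000000000000000000000))))))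

def valStore_136 : Store := (.node 2370 (.node 2291 (.node 2251 (.node 2231 valStore_120 valStore_121) (.node 2271 valStore_122 valStore_123)) (.node 2330 (.node 2310 valStore_124 valStore_125) (.node 2350 valStore_126 valStore_127))) (.node 2449 (.node 2409 (.node 2389 valStore_128 valStore_129) (.node 2429 valStore_130 valStore_131)) (.node 2489 (.node 2469 valStore_132 valStore_133) (.node 2509 valStore_134 valStore_135))))

def valStore : Store := (.node 1264 (.node 632 (.node 316 valStore_17 valStore_34) (.node 948 valStore_51 valStore_68)) (.node 1896 (.node 1580 valStore_85 valStore_102) (.node 2212 valStore_119 valStore_136)))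

end Cfsg.Agent.Fi24Mult.Log
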