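import Cfsg.Agent.Fi24Mult.Log.Defs

/-! Generated: the witnesses -/

set_option Elab.async false
set_option maxRecDepth 100000

namespace Cfsg.Agent.Fi24Mult.Log

open Cfsg.Agent.CosetCert

theorem witness0 : vwalk data.F value 12 data.Nf 6 0x2783b89e0922783b89e0922783b89e092 109895 (data.PW 13) 0 =
    vstop 109895 0 3 := by decide +kernel

theorem witness1 : vwalk data.F value 12 data.Nf 2 0x2782a09e0a8 109902 (data.PW 33) 0 =
    vstop 109902 0 644725 := by decide +kernel


end Cfsg.Agent.Fi24Mult.Log
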